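import Cfsg.Agent.H375.CovTwo.Main
import Mathlib.NumberTheory.LegendreSymbol.QuadraticChar.Basic
import Mathlib.FieldTheory.Finite.Basic
import Mathlib.Algebra.QuadraticAlgebra.Basic
import Mathlib.LinearAlgebra.SymplecticGroup
import Cfsg.Agent.H610.TableAlt_m3
import Cfsg.Agent.H373.Recog
import Cfsg.Agent.S0283
import Cfsg.Agent.Prune
set_option linter.all false
prune_inst 0x7ffeadfbeffdabffdffb7e77aedcfdfc3b959fffa4dff94bffe069ffab9f33920945ff8d0de01afe1e96c09410a87843fffffeffea6ffc7ffffdfff45ffbee4fe5f7bd08519c88b40f340ff603f0778e7f3fffffffffffffffffffffffffffbeffffffffffff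
open scoped Cfsg.Agent.FastGrp

-- part: H373/OC/Reduce
section
/-!
# Sums of group elements on modules: reduction to irreducible modules, trace criterion (helper373)
-/

set_option autoImplicit false

namespace Cfsg.Agent.H373.OC

open Module

universe u v w x

variable {k : Type v} [Field k] {G : Type u} [Group G]

/-- **Trace criterion.** -/
theorem sum_eq_zero_of_trace [Finite G] [IsAlgClosed k] {V : Type w} [AddCommGroup V] [Module k V]
    [FiniteDimensional k V] (ρ : Representation k G V) (hρ : ρ.IsIrreducible) {ι : Type*} [Fintype ι] (s : ι → G)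
    (h : ∀ g : G, ∑ i, LinearMap.trace k V (ρ (s i * g)) = 0) : ∑ i, ρ (s i) = 0 := by
  classical
  have key : ∀ a : MonoidAlgebra k G, LinearMap.trace k V ((∑ i, ρ (s i)) * ρ.asAlgebraHom a) = 0 := by
    intro a
    induction a using MonoidAlgebra.induction_linear with
    | zero => simp only [_root_.map_zero, _root_.MulZeroClass.mul_zero]
    | add x y hx hy => rw [map_add, mul_add, map_add, hx, hy, add_zero]
    | single x c =>
      rw [Representation.asAlgebraHom_single, mul_smul_comm, map_smul, Finset.sum_mul, map_sum]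
      rw [show ∑ i, LinearMap.trace k V (ρ (s i) * ρ x) = ∑ i, LinearMap.trace k V (ρ (s i * x)) from
        Finset.sum_congr rfl fun i _ => by rw [map_mul ρ], h x, smul_zero]
  apply LinearMap.ext
  intro v
  by_contra hv
  obtain ⟨f, hf⟩ : ∃ f : Module.Dual k V, f ((∑ i, ρ (s i)) v) = 1 :=
    Module.Projective.exists_dual_eq_one k hv
  obtain ⟨a, ha⟩ := Cfsg.Agent.Blocks.ModularTraces.exists_density (F := k) (G := G) (ι := Unit)
    (V := fun _ => V) (fun _ => ρ) (fun _ => hρ) (fun i j hij => absurd (Subsingleton.elim i j) hij)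
    (fun _ => f.smulRight v)
  have h1 := key a
  rw [ha ()] at h1
  have h2 : (∑ i, ρ (s i)) * f.smulRight v = f.smulRight ((∑ i, ρ (s i)) v) := by
    apply LinearMap.ext
    intro w
    show (∑ i, ρ (s i)) (f w • v) = f w • (∑ i, ρ (s i)) v
    rw [map_smul]
  rw [h2, LinearMap.trace_smulRight, hf] at h1
  exact one_ne_zero h1

/-- **Reduction to irreducible modules.** -/
theorem reduce {ι₁ ι₂ ι₃ : Type x} [Fintype ι₁] [Fintype ι₂] [Fintype ι₃] [Group ι₃] (s₁ : ι₁ → G) (s₂ : ι₂ → G)
    (s₃ : ι₃ →* G) (h3 : (Fintype.card ι₃ : k) ≠ 0)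
    (hirr : ∀ (V : Type w) [AddCommGroup V] [Module k V] [FiniteDimensional k V] (ρ : Representation k G V),
      ρ.IsIrreducible → ∑ i, ρ (s₁ i) = 0 → ∑ i, ρ (s₂ i) = 0 → ∑ i, ρ (s₃ i) = 0) :
    ∀ (n : ℕ) (V : Type w) [AddCommGroup V] [Module k V] [FiniteDimensional k V] (ρ : Representation k G V),
      finrank k V = n → ∑ i, ρ (s₁ i) = 0 → ∑ i, ρ (s₂ i) = 0 → ∑ i, ρ (s₃ i) = 0 := by
  classical
  intro n
  induction n using Nat.strong_induction_on with
  | _ n ih =>
    intro V _ _ _ ρ hn h1 h2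
    by_cases hV : Nontrivial V
    swap
    · rw [not_nontrivial_iff_subsingleton] at hV
      exact Subsingleton.elim _ _
    obtain ⟨W, hW⟩ := TraceLemma.exists_irreducible ρ
    have hWne : W.toSubmodule ≠ ⊥ := by
      intro h
      obtain ⟨x, y, hxy⟩ := hW.toNontrivial
      apply hxy
      have hs : Subsingleton ↥W.toSubmodule := by
        rw [h]; infer_instance
      apply SetLike.ext
      intro v
      have hv : v = 0 := Subsingleton.elim _ _
      subst hv
      exact ⟨fun _ => y.toSubmodule.zero_mem, fun _ => x.toSubmodule.zero_mem⟩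
    have hle : ∀ g, W.toSubmodule ≤ W.toSubmodule.comap (ρ g) := fun g v hv => W.apply_mem_toSubmodule g hv
    -- on W
    have hsub : ∀ {ι : Type x} [Fintype ι] (s : ι → G), ∑ i, ρ (s i) = 0 → ∑ i, W.toRepresentation (s i) = 0 := by
      intro ι _ s h
      apply LinearMap.ext
      intro w
      apply Subtype.ext
      have := LinearMap.congr_fun h (w : V)
      rw [LinearMap.sum_apply] at this ⊢
      rw [AddSubmonoidClass.coe_finsetSum]
      exact this
    have hquo : ∀ {ι : Type x} [Fintype ι] (s : ι → G), ∑ i, ρ (s i) = 0 →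
        ∑ i, (ρ.quotient W.toSubmodule hle) (s i) = 0 := by
      intro ι _ s h
      apply LinearMap.ext
      intro w
      obtain ⟨v, rfl⟩ := Submodule.mkQ_surjective _ w
      have := LinearMap.congr_fun h v
      rw [LinearMap.sum_apply] at this ⊢
      have h4 : ∀ i, (ρ.quotient W.toSubmodule hle) (s i) (W.toSubmodule.mkQ v) = W.toSubmodule.mkQ (ρ (s i) v) := fun i => rfl
      rw [Finset.sum_congr rfl fun i _ => h4 i, ← map_sum, this]
      simp
    have hW3 : ∑ i, W.toRepresentation (s₃ i) = 0 := hirr _ W.toRepresentation hW (hsub s₁ h1) (hsub s₂ h2)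
    have hfr : finrank k (V ⧸ W.toSubmodule) < n := by
      rw [← hn]
      have h5 := Submodule.finrank_quotient_add_finrank W.toSubmodule
      have h6 : 0 < finrank k W.toSubmodule := by
        rw [Module.finrank_pos_iff_exists_ne_zero]
        obtain ⟨w, hw, hw0⟩ := (Submodule.ne_bot_iff _).1 hWne
        exact ⟨⟨w, hw⟩, fun h => hw0 (congrArg Subtype.val h)⟩
      omega
    have hQ3 : ∑ i, (ρ.quotient W.toSubmodule hle) (s₃ i) = 0 :=
      ih _ hfr (V ⧸ W.toSubmodule) (ρ.quotient W.toSubmodule hle) rfl (hquo s₁ h1) (hquo s₂ h2)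
    -- E maps V to W, and E = 0 on W
    have hE1 : ∀ v : V, (∑ i, ρ (s₃ i)) v ∈ W.toSubmodule := by
      intro v
      rw [← Submodule.Quotient.mk_eq_zero, ← Submodule.mkQ_apply]
      have := LinearMap.congr_fun hQ3 (W.toSubmodule.mkQ v)
      rw [LinearMap.sum_apply] at this
      rw [LinearMap.sum_apply, map_sum]
      exact this
    have hE2 : ∀ w ∈ W.toSubmodule, (∑ i, ρ (s₃ i)) w = 0 := by
      intro w hw
      have := LinearMap.congr_fun hW3 ⟨w, hw⟩
      rw [LinearMap.sum_apply] at this ⊢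
      have h7 := congrArg Subtype.val this
      rw [AddSubmonoidClass.coe_finsetSum] at h7
      exact h7
    have hE3 : ∀ v : V, (∑ i, ρ (s₃ i)) ((∑ i, ρ (s₃ i)) v) = (Fintype.card ι₃ : k) • (∑ i, ρ (s₃ i)) v := by
      intro v
      rw [LinearMap.sum_apply, LinearMap.sum_apply]
      have h8 : ∀ i, ρ (s₃ i) (∑ j, ρ (s₃ j) v) = ∑ j, ρ (s₃ j) v := by
        intro i
        rw [map_sum]
        have h9 : ∀ j, ρ (s₃ i) (ρ (s₃ j) v) = ρ (s₃ (i * j)) v := by
          intro j
          rw [map_mul s₃, map_mul ρ]; rfl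
        rw [Finset.sum_congr rfl fun j _ => h9 j]
        exact Fintype.sum_equiv (Equiv.mulLeft i) _ _ fun j => rfl
      rw [Finset.sum_congr rfl fun i _ => h8 i, Finset.sum_const, Finset.card_univ, ← Nat.cast_smul_eq_nsmul k]
    apply LinearMap.ext
    intro v
    have h10 := hE3 v
    rw [hE2 _ (hE1 v)] at h10
    rcases smul_eq_zero.1 h10.symm with h | h
    · exact absurd h h3
    · rw [h]; rfl

end Cfsg.Agent.H373.OC
end

-- part: H373/OC/Count
section
/-!
# Counting over finite fields of odd order (helper373)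

`count`: for `n ≠ 0`, `∑_a F (a + n / a) + ∑_{x² - ε z² = n} F (2 x) = 2 ∑_τ F τ`.
-/

set_option autoImplicit false
set_option linter.unusedSectionVars false

namespace Cfsg.Agent.H373.OC

universe u

variable {K : Type u} [Field K] [Fintype K] [DecidableEq K]

/-- norm -/
def nm (ε : K) (y : K × K) : K := y.1 ^ 2 - ε * y.2 ^ 2

omit [Field K] in
theorem sum_fiber {ι : Type*} [Fintype ι] [DecidableEq ι] {M : Type*} [AddCommMonoid M] (φ : ι → K) (F : K → M) :
    ∑ i, F (φ i) = ∑ τ, (Fintype.card {i // φ i = τ}) • F τ := by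
  rw [← Finset.sum_fiberwise (s := Finset.univ) (g := φ)]
  refine Finset.sum_congr rfl fun τ _ => ?_
  rw [Fintype.card_subtype, ← Finset.sum_const]
  refine Finset.sum_congr rfl fun i hi => ?_
  rw [(Finset.mem_filter.1 hi).2]

theorem card_mul_sq {c : K} (hc : c ≠ 0) (D : K) :
    Fintype.card {z : K // c * z ^ 2 = D} = Fintype.card {w : K // w ^ 2 = D * c} := by
  refine Fintype.card_congr
    { toFun := fun z => ⟨c * z.1, by
        have hz := z.2
        linear_combination c * hz⟩
      invFun := fun w => ⟨w.1 * c⁻¹, by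
        have hw : (w : K) ^ 2 = D * c := w.2
        rw [mul_pow, hw]
        field_simp⟩
      left_inv := fun z => Subtype.ext (by
        show c * z.1 * c⁻¹ = z.1
        field_simp)
      right_inv := fun w => Subtype.ext (by
        show c * (w.1 * c⁻¹) = w.1
        field_simp) }

theorem card_sqrt (h2 : ringChar K ≠ 2) {ε : K} (hε : ¬ IsSquare ε) (D : K) :
    Fintype.card {w : K // w ^ 2 = D} + Fintype.card {z : K // 4 * ε * z ^ 2 = D} = 2 := by
  have h20 : (2 : K) ≠ 0 := Ring.two_ne_zero h2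
  have hε0 : ε ≠ 0 := by
    rintro rfl
    exact hε ⟨0, by ring⟩
  have h4 : (4 : K) * ε ≠ 0 := mul_ne_zero (by rw [show (4 : K) = 2 * 2 by norm_num]; exact mul_ne_zero h20 h20) hε0
  have e0 : ∀ D : K, (Fintype.card {w : K // w ^ 2 = D} : ℤ) = quadraticChar K D + 1 := by
    intro D
    rw [← quadraticChar_card_sqrts h2 D, Set.toFinset_card]
    rfl
  have e3 : quadraticChar K (D * (4 * ε)) = - quadraticChar K D := by
    rw [map_mul, map_mul, show (4 : K) = 2 ^ 2 by norm_num, quadraticChar_sq_one' h20,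
      quadraticChar_neg_one_iff_not_isSquare.2 hε]
    ring
  have : ((Fintype.card {w : K // w ^ 2 = D} + Fintype.card {z : K // 4 * ε * z ^ 2 = D} : ℕ) : ℤ) = 2 := by
    push_cast
    rw [card_mul_sq h4, e0, e0, e3]
    ring
  exact_mod_cast this

theorem card_plus (h2 : ringChar K ≠ 2) {n : K} (hn : n ≠ 0) (τ : K) :
    Fintype.card {a : Kˣ // (a : K) + n * ((a⁻¹ : Kˣ) : K) = τ} = Fintype.card {w : K // w ^ 2 = τ ^ 2 - 4 * n} := by
  have h20 : (2 : K) ≠ 0 := Ring.two_ne_zero h2
  refine Fintype.card_congr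
    { toFun := fun a => ⟨2 * (a.1 : K) - τ, by
        have h1 := a.2
        have h3 : (a.1 : K) * ((a.1⁻¹ : Kˣ) : K) = 1 := Units.mul_inv _
        have h4 : (a.1 : K) * τ = (a.1 : K) ^ 2 + n := by
          linear_combination (-(a.1 : K)) * h1 + n * h3
        linear_combination -4 * h4⟩
      invFun := fun w => ⟨Units.mk0 ((w.1 + τ) / 2) (by
          intro h
          have h1 : w.1 + τ = 0 := by
            rcases div_eq_zero_iff.1 h with h | h
            · exact h
            · exact absurd h h20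
          have h5 := w.2
          have h6 : w.1 = - τ := by linear_combination h1
          rw [h6] at h5
          have h7 : 2 * 2 * n = 0 := by linear_combination h5
          rcases mul_eq_zero.1 h7 with h | h
          · rcases mul_eq_zero.1 h with h | h <;> exact h20 h
          · exact hn h), by
          have h5 := w.2
          rw [Units.val_mk0, ← Units.mk0_val ((Units.mk0 ((w.1 + τ) / 2) _)⁻¹) (Units.ne_zero _)]
          simp only [Units.val_inv_eq_inv_val, Units.val_mk0]
          have h8 : w.1 + τ ≠ 0 := by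
            intro h1
            have h6 : w.1 = - τ := by linear_combination h1
            rw [h6] at h5
            have h7 : 2 * 2 * n = 0 := by linear_combination h5
            rcases mul_eq_zero.1 h7 with h | h
            · rcases mul_eq_zero.1 h with h | h <;> exact h20 h
            · exact hn h
          field_simp
          linear_combination h5⟩
      left_inv := fun a => by
        apply Subtype.ext
        apply Units.ext
        show (2 * (a.1 : K) - τ + τ) / 2 = a.1
        field_simp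
        ring
      right_inv := fun w => by
        apply Subtype.ext
        show 2 * ((w.1 + τ) / 2) - τ = w.1
        field_simp
        ring }

theorem count_plus {M : Type*} [AddCommMonoid M] (h2 : ringChar K ≠ 2) {n : K} (hn : n ≠ 0) (F : K → M) :
    ∑ a : Kˣ, F (a + n * (a⁻¹ : Kˣ)) = ∑ τ, (Fintype.card {w : K // w ^ 2 = τ ^ 2 - 4 * n}) • F τ := by
  rw [sum_fiber (fun a : Kˣ => (a : K) + n * ((a⁻¹ : Kˣ) : K)) F]
  exact Finset.sum_congr rfl fun τ _ => by rw [card_plus h2 hn]

theorem count {M : Type*} [AddCommMonoid M] (h2 : ringChar K ≠ 2) {ε : K} (hε : ¬ IsSquare ε) {n : K} (hn : n ≠ 0)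
    (F : K → M) :
    ∑ a : Kˣ, F (a + n * (a⁻¹ : Kˣ)) + ∑ y : {y : K × K // nm ε y = n}, F (2 * y.1.1) = 2 • ∑ τ, F τ := by
  have h20 : (2 : K) ≠ 0 := Ring.two_ne_zero h2
  rw [sum_fiber (fun a : Kˣ => (a : K) + n * ((a⁻¹ : Kˣ) : K)) F,
    sum_fiber (fun y : {y : K × K // nm ε y = n} => 2 * y.1.1) F, ← Finset.sum_add_distrib, Finset.smul_sum]
  refine Finset.sum_congr rfl fun τ _ => ?_
  rw [← add_smul]
  congr 1
  rw [← card_sqrt h2 hε (τ ^ 2 - 4 * n)]
  congr 1
  · exact card_plus h2 hn τ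
  · refine Fintype.card_congr
      { toFun := fun y => ⟨y.1.1.2, by
          have h1 : y.1.1.1 ^ 2 - ε * y.1.1.2 ^ 2 = n := y.1.2
          have h3 : 2 * y.1.1.1 = τ := y.2
          linear_combination -4 * h1 + (2 * y.1.1.1 + τ) * h3⟩
        invFun := fun z => ⟨⟨(τ / 2, z.1), by
          have h1 := z.2
          show (τ / 2) ^ 2 - ε * z.1 ^ 2 = n
          field_simp
          linear_combination -h1⟩, by
            show 2 * (τ / 2) = τ
            field_simp⟩
        left_inv := fun y => by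
          apply Subtype.ext
          apply Subtype.ext
          have h3 : 2 * y.1.1.1 = τ := y.2
          refine Prod.ext ?_ rfl
          show τ / 2 = y.1.1.1
          rw [div_eq_iff h20]
          linear_combination -h3
        right_inv := fun z => rfl }

/-- every element is a norm -/
theorem exists_nm (h2 : ringChar K ≠ 2) {ε : K} (hε : ¬ IsSquare ε) (m : K) : ∃ y : K × K, nm ε y = m := by
  have hε0 : ε ≠ 0 := by
    rintro rfl
    exact hε ⟨0, by ring⟩
  by_cases hm : m = 0
  · exact ⟨(0, 0), by rw [hm]; simp [nm]⟩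
  have hc := count (M := ℕ) h2 hε hm (fun _ => 1)
  simp only [Finset.sum_const, smul_eq_mul, mul_one, Finset.card_univ] at hc
  have h1 : Fintype.card Kˣ < Fintype.card K := by
    rw [Fintype.card_units]
    have : 0 < Fintype.card K := Fintype.card_pos
    omega
  have h3 : 0 < Fintype.card {y : K × K // nm ε y = m} := by omega
  obtain ⟨y⟩ := Fintype.card_pos_iff.1 h3
  exact ⟨y.1, y.2⟩

theorem card_nm_one (h2 : ringChar K ≠ 2) {ε : K} (hε : ¬ IsSquare ε) {n : K} (hn : n ≠ 0) :
    Fintype.card {y : K × K // nm ε y = n} = Fintype.card K + 1 := by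
  have hc := count (M := ℕ) h2 hε hn (fun _ => 1)
  simp only [Finset.sum_const, smul_eq_mul, mul_one, Finset.card_univ, Fintype.card_units] at hc
  have : 0 < Fintype.card K := Fintype.card_pos
  omega

/-- multiplication in `K[√ε]` -/
def ml (ε : K) (y w : K × K) : K × K := (y.1 * w.1 + ε * y.2 * w.2, y.1 * w.2 + y.2 * w.1)

theorem nm_ml (ε : K) (y w : K × K) : nm ε (ml ε y w) = nm ε y * nm ε w := by
  simp only [nm, ml]; ring

/-- multiplication by `w` maps norm `m` to norm `m * nm w` bijectively -/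
theorem sum_ml {M : Type*} [AddCommMonoid M] {ε : K} {w : K × K} (hw : nm ε w ≠ 0) (m : K) (F : K × K → M) :
    ∑ y : {y : K × K // nm ε y = m}, F (ml ε y.1 w) = ∑ y : {y : K × K // nm ε y = m * nm ε w}, F y.1 := by
  let w' : K × K := (w.1 / nm ε w, - w.2 / nm ε w)
  have hw' : nm ε w' = (nm ε w)⁻¹ := by
    have : nm ε w' = nm ε w / (nm ε w) ^ 2 := by
      simp only [w', nm]
      field_simp
    rw [this]
    field_simp
  have h1 : ∀ y, ml ε (ml ε y w) w' = y := by
    rintro ⟨a, b⟩
    have hne : w.1 ^ 2 - ε * w.2 ^ 2 ≠ 0 := hw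
    refine Prod.ext ?_ ?_
    · simp only [ml, w', nm]; field_simp; ring
    · simp only [ml, w', nm]; field_simp; ring
  have h3 : ∀ y, ml ε (ml ε y w') w = y := by
    rintro ⟨a, b⟩
    have hne : w.1 ^ 2 - ε * w.2 ^ 2 ≠ 0 := hw
    refine Prod.ext ?_ ?_
    · simp only [ml, w', nm]; field_simp; ring
    · simp only [ml, w', nm]; field_simp; ring
  refine Fintype.sum_equiv
    { toFun := fun y => ⟨ml ε y.1 w, by rw [nm_ml, y.2]⟩
      invFun := fun y => ⟨ml ε y.1 w', by rw [nm_ml, y.2, hw']; field_simp⟩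
      left_inv := fun y => Subtype.ext (h1 y.1)
      right_inv := fun y => Subtype.ext (h3 y.1) } _ _ fun y => rfl

end Cfsg.Agent.H373.OC
end

-- part: H373/OC/SLTwo
section
/-!
# Tori of `SL_2(K)` on modules in the defining characteristic (helper373)
-/

set_option autoImplicit false
set_option linter.unusedSectionVars false

namespace Cfsg.Agent.H373.OC

open Module Matrix

universe u v w

variable {K : Type u} [Field K] [Fintype K] [DecidableEq K]

/-- `SL_2` -/
abbrev SL2 (K : Type u) [Field K] := Matrix.SpecialLinearGroup (Fin 2) K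

/-- a matrix of determinant one -/
def mk2 (a b c d : K) (h : a * d - b * c = 1) : SL2 K := ⟨!![a, b; c, d], by rw [Matrix.det_fin_two_of]; exact h⟩

theorem exists_mk2 (g : SL2 K) : ∃ a b c d : K, ∃ h : a * d - b * c = 1, g = mk2 a b c d h := by
  refine ⟨g 0 0, g 0 1, g 1 0, g 1 1, ?_, ?_⟩
  · have := g.2
    rw [Matrix.det_fin_two] at this
    exact this
  · apply Subtype.ext
    exact Matrix.eta_fin_two _

theorem mk2_congr {a b c d a' b' c' d' : K} {h : a * d - b * c = 1} {h' : a' * d' - b' * c' = 1} (ha : a = a') (hb : b = b')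
    (hc : c = c') (hd : d = d') : mk2 a b c d h = mk2 a' b' c' d' h' := by
  subst ha hb hc hd; rfl

theorem mk2_mul (a b c d a' b' c' d' : K) (h : a * d - b * c = 1) (h' : a' * d' - b' * c' = 1) :
    mk2 a b c d h * mk2 a' b' c' d' h' = mk2 (a * a' + b * c') (a * b' + b * d') (c * a' + d * c') (c * b' + d * d')
      (by linear_combination (a' * d' - b' * c') * h + h') := by
  apply Subtype.ext
  show !![a, b; c, d] * !![a', b'; c', d'] = _
  rw [Matrix.mul_fin_two]
  rfl

theorem mk2_one : (mk2 1 0 0 1 (by ring) : SL2 K) = 1 := by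
  apply Subtype.ext
  show !![(1 : K), 0; 0, 1] = 1
  rw [Matrix.one_fin_two]

/-- unipotent elements -/
def uS (x : K) : SL2 K := mk2 1 x 0 1 (by ring)

/-- the split torus -/
def tS : Kˣ →* SL2 K where
  toFun a := mk2 a 0 0 (a⁻¹ : Kˣ) (by rw [Units.mul_inv]; ring)
  map_one' := by
    rw [← mk2_one]
    exact mk2_congr (by simp) rfl rfl (by simp)
  map_mul' a b := by
    rw [mk2_mul]
    exact mk2_congr (by simp) (by simp) (by simp) (by simp only [mul_comm, _root_.mul_inv_rev, _root_.Units.val_mul, _root_.Units.val_inv_eq_inv_val, _root_.MulZeroClass.mul_zero, _root_.zero_add])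

theorem tS_apply (a : Kˣ) : tS a = mk2 (a : K) 0 0 (a⁻¹ : Kˣ) (by rw [Units.mul_inv]; ring) := rfl

/-- the non-split torus -/
def tM (ε : K) (y : {y : K × K // nm ε y = 1}) : SL2 K := mk2 y.1.1 (ε * y.1.2) y.1.2 y.1.1 (by
  have h : y.1.1 ^ 2 - ε * y.1.2 ^ 2 = 1 := y.2
  linear_combination h)

/-- the trace -/
def tr2 (g : SL2 K) : K := g 0 0 + g 1 1

theorem tr2_mk2 (a b c d : K) (h : a * d - b * c = 1) : tr2 (mk2 a b c d h) = a + d := rfl

/-- companion matrix -/
def comp (τ : K) : SL2 K := mk2 0 (-1) 1 τ (by ring)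

theorem exists_vec (h2 : Fintype.card K % 2 = 1) (h20 : (2 : K) ≠ 0) (a b c d : K) (h : a * d - b * c = 1)
    (hτ : (a + d) ^ 2 ≠ 4) : ∃ x y : K, x * (c * x + d * y) - (a * x + b * y) * y = 1 := by
  by_cases hc : c = 0
  · subst hc
    have hda : d - a ≠ 0 := by
      intro h3
      apply hτ
      have h4 : d = a := by linear_combination h3
      subst h4
      linear_combination 4 * h
    refine ⟨(1 + b) / (d - a), 1, ?_⟩
    field_simp
    ring
  · have hD : (a + d) ^ 2 - 4 ≠ 0 := sub_ne_zero.2 hτ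
    have h4 : (4 : K) * c ≠ 0 := mul_ne_zero (by rw [show (4 : K) = 2 * 2 by norm_num]; exact mul_ne_zero h20 h20) hc
    have he : -((a + d) ^ 2 - 4) / (4 * c) ≠ 0 := div_ne_zero (neg_ne_zero.2 hD) h4
    obtain ⟨X, Y, hXY⟩ := FiniteField.exists_root_sum_quadratic
      (f := Polynomial.C c * Polynomial.X ^ 2) (g := Polynomial.C (-((a + d) ^ 2 - 4) / (4 * c)) * Polynomial.X ^ 2 +
        Polynomial.C 0 * Polynomial.X + Polynomial.C (-1)) (by
          rw [Polynomial.degree_C_mul hc, Polynomial.degree_X_pow]; rfl) (Polynomial.degree_quadratic he) h2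
    simp only [Polynomial.eval_add, Polynomial.eval_mul, Polynomial.eval_C, Polynomial.eval_pow, Polynomial.eval_X,
      zero_mul, add_zero] at hXY
    refine ⟨X - (d - a) * Y / (2 * c), Y, ?_⟩
    have h5 : c * X ^ 2 - ((a + d) ^ 2 - 4) / (4 * c) * Y ^ 2 = 1 := by linear_combination hXY
    have h6 : (a + d) ^ 2 - 4 = (d - a) ^ 2 + 4 * b * c := by linear_combination 4 * h
    have h44 : (4 : K) ≠ 0 := by rw [show (4 : K) = 2 * 2 by norm_num]; exact mul_ne_zero h20 h20
    have h7 : 4 * c ^ 2 * X ^ 2 - ((d - a) ^ 2 + 4 * b * c) * Y ^ 2 = 4 * c := by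
      rw [← h6]
      field_simp at h5
      linear_combination h5
    field_simp
    linear_combination h7

theorem conj_comp (h2 : Fintype.card K % 2 = 1) (h20 : (2 : K) ≠ 0) (g : SL2 K) (hτ : (tr2 g) ^ 2 ≠ 4) :
    ∃ C : SL2 K, g = C * comp (tr2 g) * C⁻¹ := by
  obtain ⟨a, b, c, d, h, rfl⟩ := exists_mk2 g
  rw [tr2_mk2] at hτ ⊢
  obtain ⟨x, y, hxy⟩ := exists_vec h2 h20 a b c d h hτ
  refine ⟨mk2 x (a * x + b * y) y (c * x + d * y) hxy, ?_⟩
  rw [eq_mul_inv_iff_mul_eq, comp, mk2_mul, mk2_mul]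
  apply mk2_congr
  · ring
  · linear_combination -x * h
  · ring
  · linear_combination -y * h

theorem val_pow (g : SL2 K) (n : ℕ) : (g ^ n).1 = g.1 ^ n := by
  induction n with
  | zero => rw [pow_zero, pow_zero]; rfl
  | succ n ih => rw [pow_succ, pow_succ, ← ih]; rfl

theorem pow_eq_one_of_tr2 (p : ℕ) [Fact p.Prime] [CharP K p] (g : SL2 K) (hg : tr2 g = 2) : g ^ p = 1 := by
  have hp : p.Prime := Fact.out
  obtain ⟨a, b, c, d, h, rfl⟩ := exists_mk2 g
  rw [tr2_mk2] at hg
  refine Subtype.ext ((val_pow _ _).trans ?_)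
  show !![a, b; c, d] ^ p = 1
  have hsq : (!![a, b; c, d] - 1) ^ 2 = 0 := by
    rw [Matrix.one_fin_two, pow_two]
    ext i j
    (revert i j; simp only [Matrix.mul_apply, Fin.sum_univ_two, _root_.Fin.forall_fin_succ, _root_.Matrix.of_sub_of, _root_.Matrix.sub_cons, _root_.Matrix.head_cons, _root_.Matrix.tail_cons, _root_.sub_zero, _root_.sub_self, _root_.Matrix.zero_empty, _root_.Matrix.of_apply, _root_.Matrix.cons_val', _root_.Matrix.cons_val_fin_one, Fin.isValue, _root_.Matrix.cons_val_zero, _root_.Matrix.cons_val_one, _root_.Matrix.zero_apply, _root_.Matrix.cons_val_succ, _root_.forall_const, _root_.and_true, _root_.true_and]) <;> (repeat' with_reducible apply And.intro)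
    · linear_combination -h + (a : K) * hg
    · linear_combination b * hg
    · linear_combination c * hg
    · linear_combination -h + (d : K) * hg
  have h1 : (!![a, b; c, d] - 1) ^ p = 0 := by
    obtain ⟨m, hm⟩ : ∃ m, p = 2 + m := ⟨p - 2, by have := hp.two_le; omega⟩
    rw [hm, pow_add, hsq, zero_mul]
  have : CharP (Matrix (Fin 2) (Fin 2) K) p := inferInstance
  rw [sub_pow_char_of_commute (p := p) (Commute.one_right _), one_pow, sub_eq_zero] at h1
  exact h1

variable {k : Type v} [Field k] {V : Type w} [AddCommGroup V] [Module k V]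

/-- the trace of a representation of `SL_2(K)` depends on the trace of the matrix only -/
theorem trace_eq_of_tr2 {p : ℕ} [Fact p.Prime] [CharP k p] [CharP K p] (hp2 : p ≠ 2) (ρ : Representation k (SL2 K) V)
    {g g' : SL2 K} (h : tr2 g = tr2 g') : LinearMap.trace k V (ρ g) = LinearMap.trace k V (ρ g') := by
  have hp : p.Prime := Fact.out
  have h20 : (2 : K) ≠ 0 := by
    have := CharP.cast_eq_zero_iff K p 2
    intro h
    rw [show (2 : K) = ((2 : ℕ) : K) by norm_num, this] at h
    have := (Nat.prime_dvd_prime_iff_eq hp Nat.prime_two).1 h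
    exact hp2 this
  have hodd : Fintype.card K % 2 = 1 := FiniteField.odd_card_of_char_ne_two (by
    rw [ringChar.eq K p]; exact hp2)
  by_cases hτ : (tr2 g) ^ 2 = 4
  · -- both are conjugate to `± unipotent`
    have key : ∀ (g : SL2 K) (s : K), s ^ 2 = 1 → tr2 g = 2 * s →
        LinearMap.trace k V (ρ g) = LinearMap.trace k V (ρ (if s = 1 then 1 else -1)) := by
      intro g s hs hg
      have hs' : s = 1 ∨ s = -1 := by
        have : (s - 1) * (s + 1) = 0 := by linear_combination hs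
        rcases mul_eq_zero.1 this with h | h
        · exact Or.inl (by linear_combination h)
        · exact Or.inr (by linear_combination h)
      set z : SL2 K := if s = 1 then 1 else -1 with hz
      have hzz : z * z = 1 := by
        rw [hz]; split_ifs <;> simp
      have hzc : ∀ g : SL2 K, Commute g z := by
        intro g
        rw [hz]; split_ifs
        · exact Commute.one_right g
        · exact Commute.neg_right (Commute.one_right g)
      have hu : (g * z) ^ p ^ 1 = 1 := by
        rw [pow_one]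
        have htr : tr2 (g * z) = 2 := by
          rw [hz]
          split_ifs with h1
          · rw [mul_one, hg, h1, mul_one]
          · rw [mul_neg, mul_one]
            show -(g 0 0) + -(g 1 1) = 2
            have h5 : g 0 0 + g 1 1 = 2 * s := hg
            rcases hs' with h | h
            · exact absurd h h1
            · rw [h] at h5
              linear_combination -h5
        exact pow_eq_one_of_tr2 p (g * z) htr
      have h3 := Cfsg.Agent.Blocks.ModularTraces.trace_eq_of_commute p ρ (x := g * z) (y := z)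
        ((hzc g).mul_left (Commute.refl z)) hu
      rw [mul_assoc, hzz, mul_one] at h3
      exact h3
    obtain ⟨s, hs⟩ : ∃ s : K, tr2 g = 2 * s := ⟨tr2 g / 2, by field_simp⟩
    have hs1 : s ^ 2 = 1 := by
      rw [hs] at hτ
      have h4 : (2 : K) * 2 * (s ^ 2 - 1) = 0 := by linear_combination hτ
      rcases mul_eq_zero.1 h4 with h | h
      · rcases mul_eq_zero.1 h with h | h <;> exact absurd h h20
      · linear_combination h
    rw [key g s hs1 hs, key g' s hs1 (h ▸ hs)]
  · obtain ⟨C, hC⟩ := conj_comp hodd h20 g hτ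
    obtain ⟨C', hC'⟩ := conj_comp hodd h20 g' (h ▸ hτ)
    have key : ∀ (C x : SL2 K), LinearMap.trace k V (ρ (C * x * C⁻¹)) = LinearMap.trace k V (ρ x) := by
      intro C x
      rw [map_mul, LinearMap.trace_mul_comm, ← map_mul, ← mul_assoc, inv_mul_cancel, one_mul]
    rw [hC, hC', key, key, h]

theorem card_cast_zero (k : Type v) [Field k] {p : ℕ} [Fact p.Prime] [CharP k p] [CharP K p] :
    ((Fintype.card K : ℕ) : k) = 0 := by
  obtain ⟨n, hp, hn⟩ := FiniteField.card K p
  rw [hn, Nat.cast_pow, CharP.cast_eq_zero, zero_pow n.ne_zero]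

/-- sums over the non-split torus -/
theorem sum_nonsplit [FiniteDimensional k V] {p : ℕ} [Fact p.Prime] [CharP k p] [CharP K p]
    (ρ : Representation k (SL2 K) V) {ε : K} (hε : ¬ IsSquare ε) (h2 : ringChar K ≠ 2)
    (hM : ∑ y, ρ (tM ε y) = 0) {F : K → k} (hF : ∀ g, LinearMap.trace k V (ρ g) = F (tr2 g)) :
    (∀ n : K, n ≠ 0 → ∑ y : {y : K × K // nm ε y = n}, F (2 * y.1.1) = 0) ∧ F 0 = 0 := by
  have key : ∀ w t : K × K, nm ε w - nm ε t = 1 →
      ∑ y : {y : K × K // nm ε y = 1}, F (2 * (ml ε y.1 w).1) = 0 := by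
    intro w t hwt
    let g : SL2 K := mk2 (w.1 + t.1) (ε * (w.2 - t.2)) (w.2 + t.2) (w.1 - t.1) (by
      simp only [nm] at hwt
      linear_combination hwt)
    have h1 : LinearMap.trace k V ((∑ y, ρ (tM ε y)) * ρ g) = 0 := by rw [hM, zero_mul, map_zero]
    rw [Finset.sum_mul, map_sum] at h1
    rw [← h1]
    refine Finset.sum_congr rfl fun y _ => ?_
    rw [← map_mul ρ, hF]
    congr 1
    show _ = tr2 (tM ε y * g)
    rw [tM, mk2_mul, tr2_mk2]
    simp only [ml]
    ring
  constructor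
  · intro n hn
    obtain ⟨w, hw⟩ := exists_nm h2 hε n
    obtain ⟨t, ht⟩ := exists_nm h2 hε (n - 1)
    have h3 := key w t (by rw [hw, ht]; ring)
    have h4 := sum_ml (M := k) (ε := ε) (w := w) (by rw [hw]; exact hn) 1 (fun y => F (2 * y.1))
    rw [h3] at h4
    rw [h4]
    subst hw
    rw [one_mul]
  · obtain ⟨t, ht⟩ := exists_nm h2 hε (-1)
    have h3 := key (0, 0) t (by rw [ht]; simp [nm])
    have h5 : ∀ y : {y : K × K // nm ε y = 1}, F (2 * (ml ε y.1 (0, 0)).1) = F 0 := by
      intro y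
      congr 1
      simp [ml]
    rw [Finset.sum_congr rfl fun y _ => h5 y, Finset.sum_const, Finset.card_univ, card_nm_one h2 hε one_ne_zero,
      nsmul_eq_mul, Nat.cast_add, card_cast_zero k (p := p), zero_add, Nat.cast_one, one_mul] at h3
    exact h3

theorem sum_uS (ρ : Representation k (SL2 K) V) (hU : ∑ x, ρ (uS x) = 0)
    {F : K → k} (hF : ∀ g, LinearMap.trace k V (ρ g) = F (tr2 g)) : ∑ τ, F τ = 0 := by
  have h1 : LinearMap.trace k V ((∑ x, ρ (uS x)) * ρ (mk2 0 (-1) 1 0 (by ring))) = 0 := by rw [hU, zero_mul, map_zero]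
  rw [Finset.sum_mul, map_sum] at h1
  rw [← h1]
  refine Finset.sum_congr rfl fun y _ => ?_
  rw [← map_mul ρ, hF, uS, mk2_mul, tr2_mk2]
  congr 1
  ring

/-- **Lemma S**, irreducible case. -/
theorem split_of_nonsplit_irr [IsAlgClosed k] [FiniteDimensional k V] {p : ℕ} [Fact p.Prime] [CharP k p] [CharP K p]
    (hp2 : p ≠ 2) (ρ : Representation k (SL2 K) V) (hρ : ρ.IsIrreducible) {ε : K} (hε : ¬ IsSquare ε)
    (hU : ∑ x, ρ (uS x) = 0) (hM : ∑ y, ρ (tM ε y) = 0) : ∑ a, ρ (tS a) = 0 := by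
  have h2 : ringChar K ≠ 2 := by rw [ringChar.eq K p]; exact hp2
  let F : K → k := fun τ => LinearMap.trace k V (ρ (comp τ))
  have hF : ∀ g, LinearMap.trace k V (ρ g) = F (tr2 g) := by
    intro g
    exact trace_eq_of_tr2 hp2 ρ (by rw [comp, tr2_mk2, zero_add])
  obtain ⟨hM1, hM0⟩ := sum_nonsplit (p := p) ρ hε h2 hM hF
  have hU1 := sum_uS ρ hU hF
  apply sum_eq_zero_of_trace ρ hρ
  intro g
  obtain ⟨a, b, c, d, h, rfl⟩ := exists_mk2 g
  have e1 : ∀ s : Kˣ, LinearMap.trace k V (ρ (tS s * mk2 a b c d h)) = F (s * a + (s⁻¹ : Kˣ) * d) := by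
    intro s
    rw [hF]
    congr 1
    rw [tS_apply, mk2_mul, tr2_mk2]
    ring
  rw [Finset.sum_congr rfl fun s _ => e1 s]
  have hsum0 : ∀ x : Kˣ, ∑ s : Kˣ, F (s * x) = 0 := by
    intro x
    have h3 : ∑ s : Kˣ, F (s * x) = ∑ s : Kˣ, F s :=
      Fintype.sum_equiv (Equiv.mulRight x) _ _ fun s => by rw [Equiv.coe_mulRight, Units.val_mul]
    rw [h3]
    have h4 : ∑ τ, F τ = F 0 + ∑ s : Kˣ, F s := by
      rw [← Finset.add_sum_erase _ _ (Finset.mem_univ (0 : K))]
      congr 1
      refine (Finset.sum_bij' (fun (s : Kˣ) _ => (s : K)) (fun x hx => Units.mk0 x (Finset.ne_of_mem_erase hx)) ?_ ?_ ?_ ?_ ?_).symm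
      · intro s _
        exact Finset.mem_erase.2 ⟨s.ne_zero, Finset.mem_univ _⟩
      · intro x hx
        exact Finset.mem_univ _
      · intro s _
        exact Units.ext rfl
      · intro x hx
        rfl
      · intro s _
        rfl
    rw [hU1, hM0, zero_add] at h4
    exact h4.symm
  by_cases ha : a = 0
  · subst ha
    by_cases hd : d = 0
    · subst hd
      simp only [mul_zero, add_zero, hM0, Finset.sum_const_zero]
    · have h3 := hsum0 (Units.mk0 d hd)
      rw [← h3]
      refine Fintype.sum_equiv (Equiv.inv Kˣ) _ _ fun s => ?_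
      rw [mul_zero, zero_add, Equiv.inv_apply, Units.val_mk0]
  · by_cases hd : d = 0
    · subst hd
      have h3 := hsum0 (Units.mk0 a ha)
      rw [← h3]
      refine Finset.sum_congr rfl fun s _ => ?_
      rw [mul_zero, add_zero, Units.val_mk0]
    · have h3 := count (M := k) h2 hε (mul_ne_zero ha hd) F
      rw [hM1 _ (mul_ne_zero ha hd), hU1, add_zero, smul_zero] at h3
      rw [← h3]
      refine Fintype.sum_equiv (Equiv.mulRight (Units.mk0 a ha)) _ _ fun s => ?_
      congr 1
      rw [Equiv.coe_mulRight]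
      simp only [Units.val_mul, Units.val_mk0, mul_inv, Units.val_inv_eq_inv_val]
      field_simp

end Cfsg.Agent.H373.OC
end

-- part: H373/OC/Even
section
/-!
# `SL_2(p)`, even case (helper373)

An irreducible module in characteristic `p` for `SL_2(p)` on which `-1` acts trivially and on which the sum over the
unipotent subgroup vanishes has a nonzero fixed vector of the split torus.
-/

set_option autoImplicit false
set_option linter.unusedSectionVars false

namespace Cfsg.Agent.H373.OC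

open Module Matrix Polynomial

universe u v w

variable {K : Type u} [Field K] [Fintype K] [DecidableEq K] {k : Type v} [Field k]

theorem choose_ne_zero {p : ℕ} (hp : p.Prime) [CharP k p] {m i : ℕ} (hm : m < p) (hi : i ≤ m) :
    ((m.choose i : ℕ) : k) ≠ 0 := by
  intro h
  rw [CharP.cast_eq_zero_iff k p] at h
  have h1 : p ∣ m.factorial := by
    rw [← Nat.choose_mul_factorial_mul_factorial hi, mul_assoc]
    exact Dvd.dvd.mul_right h _
  rw [hp.dvd_factorial] at h1
  omega

/-- moments -/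
theorem moments {p : ℕ} (hp : p.Prime) (hp2 : p ≠ 2) [CharP k p] (hcard : Fintype.card K = p) (j : K →+* k) (F : K → k)
    (h : ∀ n : K, ∑ τ, j (τ ^ 2 - 4 * n) ^ (p / 2) * F τ = 0) (i : ℕ) (hi : i ≤ p / 2) :
    ∑ τ, F τ * j τ ^ (2 * i) = 0 := by
  have h4 : (4 : K) ≠ 0 := by
    intro h4
    have h5 : (4 : k) = 0 := by
      have := congrArg j h4
      rwa [map_ofNat, map_zero] at this
    rw [show (4 : k) = ((4 : ℕ) : k) by norm_num, CharP.cast_eq_zero_iff k p] at h5
    have h6 : p ∣ 2 := hp.dvd_of_dvd_pow (show p ∣ 2 ^ 2 by norm_num; exact h5)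
    exact hp2 ((Nat.prime_dvd_prime_iff_eq hp Nat.prime_two).1 h6)
  set m := p / 2 with hm
  have hmp : m < p := Nat.div_lt_self hp.pos (by norm_num)
  let P : k[X] := ∑ τ, C (F τ) * (X + C (-(j τ ^ 2))) ^ m
  have hdeg : P.natDegree ≤ m := by
    refine natDegree_sum_le_of_forall_le _ _ fun τ _ => ?_
    refine (natDegree_C_mul_le _ _).trans ?_
    refine natDegree_pow_le.trans ?_
    rw [natDegree_X_add_C, mul_one]
  have hP : P = 0 := by
    refine Polynomial.eq_zero_of_natDegree_lt_card_of_eval_eq_zero (f := fun n : K => j (4 * n)) P ?_ ?_ ?_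
    · intro a b hab
      exact mul_left_cancel₀ h4 (j.injective hab)
    · intro n
      rw [eval_finsetSum]
      have h5 := h n
      have h6 : ∀ τ, eval (j (4 * n)) (C (F τ) * (X + C (-(j τ ^ 2))) ^ m) = (-1) ^ m * (j (τ ^ 2 - 4 * n) ^ m * F τ) := by
        intro τ
        rw [eval_mul, eval_C, eval_pow, eval_add, eval_X, eval_C, map_sub, map_pow]
        rw [show j (4 * n) + -(j τ ^ 2) = (-1) * (j τ ^ 2 - j (4 * n)) by ring, mul_pow]
        ring
      rw [Finset.sum_congr rfl fun τ _ => h6 τ, ← Finset.mul_sum, h5, mul_zero]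
    · rw [hcard]; omega
  have hc : P.coeff (m - i) = 0 := by rw [hP, coeff_zero]
  rw [finsetSum_coeff] at hc
  have h7 : ∀ τ, (C (F τ) * (X + C (-(j τ ^ 2))) ^ m).coeff (m - i) =
      ((-1) ^ i * ((m.choose (m - i) : ℕ) : k)) * (F τ * j τ ^ (2 * i)) := by
    intro τ
    rw [coeff_C_mul, coeff_X_add_C_pow, show m - (m - i) = i by omega, neg_pow, pow_mul]
    ring
  rw [Finset.sum_congr rfl fun τ _ => h7 τ, ← Finset.mul_sum] at hc
  rcases mul_eq_zero.1 hc with h8 | h8
  · exfalso
    rcases mul_eq_zero.1 h8 with h9 | h9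
    · exact (pow_ne_zero _ (neg_ne_zero.2 one_ne_zero)) h9
    · exact choose_ne_zero hp hmp (Nat.sub_le _ _) h9
  · exact h8

theorem eq_zero_of_moments {p : ℕ} (hp : p.Prime) [CharP k p] (hcard : Fintype.card K = p) (j : K →+* k)
    (F : K → k) (h : ∀ i < p, ∑ τ, F τ * j τ ^ i = 0) (c : K) : F c = 0 := by
  have h1 : ∀ τ, F τ * (1 - (j τ - j c) ^ (p - 1)) = if τ = c then F c else 0 := by
    intro τ
    split_ifs with h2
    · subst h2
      rw [sub_self, zero_pow (by have := hp.two_le; omega), sub_zero, mul_one]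
    · have h3 : (j τ - j c) ^ (p - 1) = 1 := by
        rw [← map_sub, ← map_pow, ← hcard, FiniteField.pow_card_sub_one_eq_one _ (sub_ne_zero.2 h2), map_one]
      rw [h3, sub_self, mul_zero]
  have h4 : ∑ τ, F τ * (1 - (j τ - j c) ^ (p - 1)) = F c := by
    rw [Finset.sum_congr rfl fun τ _ => h1 τ, Finset.sum_ite_eq' Finset.univ c, if_pos (Finset.mem_univ _)]
  rw [← h4]
  have h5 : ∀ τ, F τ * (1 - (j τ - j c) ^ (p - 1)) = F τ * j τ ^ 0 -
      ∑ i ∈ Finset.range (p - 1 + 1), ((-(j c)) ^ (p - 1 - i) * (((p - 1).choose i : ℕ) : k)) * (F τ * j τ ^ i) := by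
    intro τ
    rw [sub_eq_add_neg (j τ), add_pow, mul_sub, mul_one, pow_zero, mul_one, Finset.mul_sum]
    congr 1
    refine Finset.sum_congr rfl fun i _ => ?_
    ring
  rw [Finset.sum_congr rfl fun τ _ => h5 τ, Finset.sum_sub_distrib, h 0 hp.pos, Finset.sum_comm, zero_sub, neg_eq_zero]
  refine Finset.sum_eq_zero fun i hi => ?_
  rw [← Finset.mul_sum, h i (by have := Finset.mem_range.1 hi; have := hp.pos; omega), mul_zero]

variable {V : Type w} [AddCommGroup V] [Module k V]

/-- **Lemma A**, irreducible case. -/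
theorem split_ne_zero_irr [IsAlgClosed k] [FiniteDimensional k V] {p : ℕ} [Fact p.Prime] [CharP k p] [CharP K p]
    (hp2 : p ≠ 2) (ρ : Representation k (SL2 K) V) (hρ : ρ.IsIrreducible) (hcard : Fintype.card K = p) (j : K →+* k)
    (hneg : ρ (-1) = 1) (hU : ∑ x, ρ (uS x) = 0) : ∑ a, ρ (tS a) ≠ 0 := by
  intro hT
  have hp : p.Prime := Fact.out
  have h2 : ringChar K ≠ 2 := by rw [ringChar.eq K p]; exact hp2
  have h20 : (2 : K) ≠ 0 := Ring.two_ne_zero h2
  have h2k : (2 : k) ≠ 0 := by
    rw [← map_ofNat j 2]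
    exact fun h => h20 (j.injective (by rw [h, map_zero]))
  let F : K → k := fun τ => LinearMap.trace k V (ρ (comp τ))
  have hF : ∀ g, LinearMap.trace k V (ρ g) = F (tr2 g) := by
    intro g
    exact trace_eq_of_tr2 hp2 ρ (by rw [comp, tr2_mk2, zero_add])
  have hU1 := sum_uS ρ hU hF
  have hT1 : ∀ g : SL2 K, ∑ s, LinearMap.trace k V (ρ (tS s * g)) = 0 := by
    intro g
    have h1 : LinearMap.trace k V ((∑ x, ρ (tS x)) * ρ g) = 0 := by rw [hT, zero_mul, map_zero]
    rw [Finset.sum_mul, map_sum] at h1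
    rw [← h1]
    exact Finset.sum_congr rfl fun s _ => by rw [map_mul ρ]
  have hF0 : F 0 = 0 := by
    have h1 := hT1 (mk2 0 (-1) 1 0 (by ring))
    have h3 : ∀ s : Kˣ, LinearMap.trace k V (ρ (tS s * mk2 0 (-1) 1 0 (by ring))) = F 0 := by
      intro s
      rw [hF, tS_apply, mk2_mul, tr2_mk2]
      congr 1
      ring
    rw [Finset.sum_congr rfl fun s _ => h3 s, Finset.sum_const, Finset.card_univ, nsmul_eq_mul] at h1
    rcases mul_eq_zero.1 h1 with h | h
    · exfalso
      rw [Fintype.card_units, hcard, CharP.cast_eq_zero_iff k p] at h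
      have := Nat.le_of_dvd (by have := hp.two_le; omega) h
      have := hp.two_le
      omega
    · exact h
  have hF1 : ∀ n : K, n ≠ 0 → ∑ s : Kˣ, F (s + n * (s⁻¹ : Kˣ)) = 0 := by
    intro n _
    have h1 := hT1 (mk2 1 (n - 1) 1 n (by ring))
    rw [← h1]
    refine Finset.sum_congr rfl fun s _ => ?_
    rw [hF, tS_apply, mk2_mul, tr2_mk2]
    congr 1
    ring
  -- relation with the quadratic character
  have hchar : ∀ D : K, ((Fintype.card {w : K // w ^ 2 = D} : ℕ) : k) = j D ^ (p / 2) + 1 := by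
    intro D
    have e1 : (Fintype.card {w : K // w ^ 2 = D} : ℤ) = quadraticChar K D + 1 := by
      rw [← quadraticChar_card_sqrts h2 D, Set.toFinset_card]
      rfl
    have e2 : ((Fintype.card {w : K // w ^ 2 = D} : ℕ) : K) = D ^ (p / 2) + 1 := by
      have e3 := congrArg (Int.cast : ℤ → K) e1
      rw [Int.cast_natCast, Int.cast_add, Int.cast_one, quadraticChar_eq_pow_of_char_ne_two' h2, hcard] at e3
      exact e3
    have e4 := congrArg j e2
    rw [map_natCast, map_add, map_pow, map_one] at e4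
    exact e4
  have hq : ∀ n : K, ∑ τ, j (τ ^ 2 - 4 * n) ^ (p / 2) * F τ = 0 := by
    intro n
    by_cases hn : n = 0
    · subst hn
      have h3 : ∀ τ : K, j (τ ^ 2 - 4 * 0) ^ (p / 2) * F τ = F τ := by
        intro τ
        by_cases hτ : τ = 0
        · subst hτ; rw [hF0, mul_zero]
        · have hodd : p % 2 = 1 := by
            rcases hp.eq_two_or_odd with h | h
            · exact absurd h hp2
            · exact h
          rw [mul_zero, sub_zero, map_pow, ← pow_mul, show 2 * (p / 2) = p - 1 by omega, ← map_pow, ← hcard,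
            FiniteField.pow_card_sub_one_eq_one _ hτ, map_one, one_mul]
      rw [Finset.sum_congr rfl fun τ _ => h3 τ, hU1]
    · have h3 := hF1 n hn
      rw [count_plus h2 hn] at h3
      have h4 : ∀ τ : K, Fintype.card {w : K // w ^ 2 = τ ^ 2 - 4 * n} • F τ =
          j (τ ^ 2 - 4 * n) ^ (p / 2) * F τ + F τ := by
        intro τ
        rw [nsmul_eq_mul, hchar]
        ring
      rw [Finset.sum_congr rfl fun τ _ => h4 τ, Finset.sum_add_distrib, hU1, add_zero] at h3
      exact h3
  have heven : ∀ τ, F (-τ) = F τ := by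
    intro τ
    have h3 : tr2 (-comp τ) = -τ := by
      show -(0 : K) + -τ = -τ
      ring
    have h4 := hF (-comp τ)
    rw [h3] at h4
    rw [← h4]
    have h5 : ρ (-comp τ) = ρ (comp τ) := by
      rw [← neg_one_mul, map_mul, hneg, one_mul]
    rw [h5]
  have hmom : ∀ i < p, ∑ τ, F τ * j τ ^ i = 0 := by
    intro i hi
    rcases Nat.even_or_odd' i with ⟨c, hc | hc⟩
    · rw [hc]
      exact moments hp hp2 hcard j F hq c (by omega)
    · have h3 : ∑ τ, F τ * j τ ^ i = - ∑ τ, F τ * j τ ^ i := by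
        conv_lhs => rw [← Equiv.sum_comp (Equiv.neg K)]
        rw [← Finset.sum_neg_distrib]
        refine Finset.sum_congr rfl fun τ _ => ?_
        rw [Equiv.neg_apply, heven, map_neg, Odd.neg_pow ⟨c, hc⟩]
        ring
      have h4 : (2 : k) * ∑ τ, F τ * j τ ^ i = 0 := by linear_combination h3
      exact (mul_eq_zero.1 h4).resolve_left h2k
  have hF2 := eq_zero_of_moments hp hcard j F hmom
  have h2 := Cfsg.Agent.Blocks.ModularTraces.linearIndependent_trace (F := k) (G := SL2 K) (ι := Unit)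
    (V := fun _ => V) (fun _ => ρ) (fun _ => hρ) (fun i j hij => absurd (Subsingleton.elim i j) hij)
  exact h2.ne_zero () (_root_.funext fun g => by rw [hF, hF2]; rfl)

end Cfsg.Agent.H373.OC
end

-- part: H373/OC/GLTwo
section
/-!
# Tori of `GL_2(K)` on modules in the defining characteristic (helper373)
-/

set_option autoImplicit false
set_option linter.unusedSectionVars false

namespace Cfsg.Agent.H373.OC

open Module Matrix

universe u v w

variable {K : Type u} [Field K] [Fintype K] [DecidableEq K]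

/-- `GL_2` -/
abbrev GL2 (K : Type u) [Field K] := (Matrix (Fin 2) (Fin 2) K)ˣ

theorem inv_aux {a b c d : K} (h : a * d - b * c ≠ 0) :
    !![a, b; c, d] * ((a * d - b * c)⁻¹ • !![d, -b; -c, a]) = 1 := by
  have e : !![a, b; c, d] * !![d, -b; -c, a] = (a * d - b * c) • (1 : Matrix (Fin 2) (Fin 2) K) := by
    rw [Matrix.mul_fin_two, Matrix.one_fin_two]
    ext i j
    (revert i j; simp only [_root_.Fin.forall_fin_succ, _root_.mul_neg, _root_.Matrix.of_apply, _root_.Matrix.cons_val', _root_.Matrix.cons_val_fin_one, _root_.Matrix.smul_apply, _root_.smul_eq_mul, Fin.isValue, _root_.Matrix.cons_val_zero, _root_.Matrix.cons_val_succ, _root_.forall_const, _root_.mul_one, _root_.MulZeroClass.mul_zero]) <;> (repeat' with_reducible apply And.intro) <;> ring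
  rw [Matrix.mul_smul, e, smul_smul, inv_mul_cancel₀ h, one_smul]

/-- an invertible matrix -/
noncomputable def mkG (a b c d : K) (h : a * d - b * c ≠ 0) : GL2 K :=
  ⟨!![a, b; c, d], (a * d - b * c)⁻¹ • !![d, -b; -c, a], inv_aux h, mul_eq_one_comm.1 (inv_aux h)⟩

theorem exists_mkG (g : GL2 K) : ∃ a b c d : K, ∃ h : a * d - b * c ≠ 0, g = mkG a b c d h := by
  refine ⟨g.1 0 0, g.1 0 1, g.1 1 0, g.1 1 1, ?_, ?_⟩
  · rw [← Matrix.det_fin_two]
    exact ((Matrix.isUnit_iff_isUnit_det _).1 g.isUnit).ne_zero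
  · apply Units.ext
    exact Matrix.eta_fin_two _

theorem mkG_congr {a b c d a' b' c' d' : K} {h : a * d - b * c ≠ 0} {h' : a' * d' - b' * c' ≠ 0} (ha : a = a') (hb : b = b')
    (hc : c = c') (hd : d = d') : mkG a b c d h = mkG a' b' c' d' h' := by
  subst ha hb hc hd; rfl

theorem mkG_mul (a b c d a' b' c' d' : K) (h : a * d - b * c ≠ 0) (h' : a' * d' - b' * c' ≠ 0) :
    mkG a b c d h * mkG a' b' c' d' h' = mkG (a * a' + b * c') (a * b' + b * d') (c * a' + d * c') (c * b' + d * d')
      (by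
        have : (a * a' + b * c') * (c * b' + d * d') - (a * b' + b * d') * (c * a' + d * c') =
          (a * d - b * c) * (a' * d' - b' * c') := by ring
        rw [this]
        exact mul_ne_zero h h') := by
  apply Units.ext
  show !![a, b; c, d] * !![a', b'; c', d'] = _
  rw [Matrix.mul_fin_two]
  rfl

theorem mkG_one : (mkG 1 0 0 1 (by simp) : GL2 K) = 1 := by
  apply Units.ext
  show !![(1 : K), 0; 0, 1] = 1
  rw [Matrix.one_fin_two]

/-- unipotent elements -/
noncomputable def uG (x : K) : GL2 K := mkG 1 x 0 1 (by simp)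

/-- the split torus -/
noncomputable def tG : Kˣ × Kˣ →* GL2 K where
  toFun a := mkG a.1 0 0 a.2 (by simp)
  map_one' := by
    rw [← mkG_one]
    exact mkG_congr (by simp) rfl rfl (by simp)
  map_mul' a b := by
    rw [mkG_mul]
    exact mkG_congr (by simp) (by simp) (by simp) (by simp)

theorem tG_apply (a : Kˣ × Kˣ) : tG a = mkG (a.1 : K) 0 0 a.2 (by simp) := rfl

/-- the non-split torus -/
noncomputable def tN (ε : K) (y : {y : K × K // nm ε y ≠ 0}) : GL2 K := mkG y.1.1 (ε * y.1.2) y.1.2 y.1.1 (by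
  have h : y.1.1 ^ 2 - ε * y.1.2 ^ 2 ≠ 0 := y.2
  intro h1
  apply h
  linear_combination h1)

/-- the trace -/
def trG (g : GL2 K) : K := g.1 0 0 + g.1 1 1

/-- the determinant -/
def dtG (g : GL2 K) : K := g.1 0 0 * g.1 1 1 - g.1 0 1 * g.1 1 0

theorem trG_mkG (a b c d : K) (h : a * d - b * c ≠ 0) : trG (mkG a b c d h) = a + d := rfl

theorem dtG_mkG (a b c d : K) (h : a * d - b * c ≠ 0) : dtG (mkG a b c d h) = a * d - b * c := rfl

/-- companion matrix -/
noncomputable def compG (τ δ : K) (h : δ ≠ 0) : GL2 K := mkG 0 (-δ) 1 τ (by simpa using h)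

theorem conj_compG (g : GL2 K) (hτ : (trG g) ^ 2 ≠ 4 * dtG g) :
    ∃ (C : GL2 K) (h : dtG g ≠ 0), g = C * compG (trG g) (dtG g) h * C⁻¹ := by
  obtain ⟨a, b, c, d, h, rfl⟩ := exists_mkG g
  rw [trG_mkG, dtG_mkG] at hτ ⊢
  obtain ⟨x, y, hxy⟩ : ∃ x y : K, x * (c * x + d * y) - (a * x + b * y) * y ≠ 0 := by
    by_cases hc : c = 0
    · subst hc
      have hda : d - a ≠ 0 := by
        intro h3
        apply hτ
        have h4 : d = a := by linear_combination h3
        subst h4
        ring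
      by_cases hb : b = 0
      · subst hb
        refine ⟨1, 1, ?_⟩
        intro h5
        apply hda
        linear_combination h5
      · refine ⟨0, 1, ?_⟩
        intro h5
        apply hb
        linear_combination -h5
    · refine ⟨1, 0, ?_⟩
      intro h5
      apply hc
      linear_combination h5
  refine ⟨mkG x (a * x + b * y) y (c * x + d * y) hxy, h, ?_⟩
  rw [eq_mul_inv_iff_mul_eq, compG, mkG_mul, mkG_mul]
  apply mkG_congr
  · ring
  · ring
  · ring
  · ring

theorem valG_pow (g : GL2 K) (n : ℕ) : (g ^ n).1 = g.1 ^ n := by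
  induction n with
  | zero => rw [pow_zero, pow_zero]; rfl
  | succ n ih => rw [pow_succ, pow_succ, ← ih]; rfl

theorem pow_eq_one_of_trG (p : ℕ) [Fact p.Prime] [CharP K p] (g : GL2 K) (hg : trG g = 2) (hd : dtG g = 1) :
    g ^ p = 1 := by
  have hp : p.Prime := Fact.out
  obtain ⟨a, b, c, d, h, rfl⟩ := exists_mkG g
  rw [trG_mkG] at hg
  rw [dtG_mkG] at hd
  refine Units.ext ((valG_pow _ _).trans ?_)
  show !![a, b; c, d] ^ p = 1
  have hsq : (!![a, b; c, d] - 1) ^ 2 = 0 := by
    rw [Matrix.one_fin_two, pow_two]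
    ext i j
    (revert i j; simp only [Matrix.mul_apply, Fin.sum_univ_two, _root_.Fin.forall_fin_succ, _root_.Matrix.of_sub_of, _root_.Matrix.sub_cons, _root_.Matrix.head_cons, _root_.Matrix.tail_cons, _root_.sub_zero, _root_.sub_self, _root_.Matrix.zero_empty, _root_.Matrix.of_apply, _root_.Matrix.cons_val', _root_.Matrix.cons_val_fin_one, Fin.isValue, _root_.Matrix.cons_val_zero, _root_.Matrix.cons_val_one, _root_.Matrix.zero_apply, _root_.Matrix.cons_val_succ, _root_.forall_const, _root_.and_true, _root_.true_and]) <;> (repeat' with_reducible apply And.intro)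
    · linear_combination -hd + (a : K) * hg
    · linear_combination b * hg
    · linear_combination c * hg
    · linear_combination -hd + (d : K) * hg
  have h1 : (!![a, b; c, d] - 1) ^ p = 0 := by
    obtain ⟨m, hm⟩ : ∃ m, p = 2 + m := ⟨p - 2, by have := hp.two_le; omega⟩
    rw [hm, pow_add, hsq, zero_mul]
  have : CharP (Matrix (Fin 2) (Fin 2) K) p := inferInstance
  rw [sub_pow_char_of_commute (p := p) (Commute.one_right _), one_pow, sub_eq_zero] at h1
  exact h1

variable {k : Type v} [Field k] {V : Type w} [AddCommGroup V] [Module k V]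

/-- the trace of a representation of `GL_2(K)` depends on the trace and the determinant of the matrix only -/
theorem trace_eq_of_trG {p : ℕ} [Fact p.Prime] [CharP k p] [CharP K p] (hp2 : p ≠ 2) (ρ : Representation k (GL2 K) V)
    {g g' : GL2 K} (h : trG g = trG g') (hd : dtG g = dtG g') :
    LinearMap.trace k V (ρ g) = LinearMap.trace k V (ρ g') := by
  have hp : p.Prime := Fact.out
  have h20 : (2 : K) ≠ 0 := by
    have := CharP.cast_eq_zero_iff K p 2
    intro h
    rw [show (2 : K) = ((2 : ℕ) : K) by norm_num, this] at h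
    have := (Nat.prime_dvd_prime_iff_eq hp Nat.prime_two).1 h
    exact hp2 this
  by_cases hτ : (trG g) ^ 2 = 4 * dtG g
  · obtain ⟨s, hs⟩ : ∃ s : K, trG g = 2 * s := ⟨trG g / 2, by field_simp⟩
    have hs1 : dtG g = s ^ 2 := by
      rw [hs] at hτ
      have h4 : (2 : K) * 2 * (s ^ 2 - dtG g) = 0 := by linear_combination hτ
      rcases mul_eq_zero.1 h4 with h | h
      · rcases mul_eq_zero.1 h with h | h <;> exact absurd h h20
      · linear_combination -h
    have hs0 : s ≠ 0 := by
      rintro rfl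
      obtain ⟨a, b, c, d, h5, rfl⟩ := exists_mkG g
      rw [dtG_mkG] at hs1
      exact h5 (by rw [hs1]; ring)
    have key : ∀ g : GL2 K, trG g = 2 * s → dtG g = s ^ 2 →
        LinearMap.trace k V (ρ g) = LinearMap.trace k V (ρ (mkG s 0 0 s (by simpa using hs0))) := by
      intro g hg hg2
      set z : GL2 K := mkG s 0 0 s (by simpa using hs0) with hz
      set z' : GL2 K := mkG s⁻¹ 0 0 s⁻¹ (by simpa using hs0) with hz'
      have hzz : z' * z = 1 := by
        rw [hz, hz', mkG_mul, ← mkG_one]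
        exact mkG_congr (by field_simp; ring) (by ring) (by ring) (by field_simp; ring)
      have hzc : ∀ g : GL2 K, Commute g z := by
        intro g
        obtain ⟨a, b, c, d, h5, rfl⟩ := exists_mkG g
        show _ * _ = _ * _
        rw [hz, mkG_mul, mkG_mul]
        exact mkG_congr (by ring) (by ring) (by ring) (by ring)
      have hu : (g * z') ^ p ^ 1 = 1 := by
        rw [pow_one]
        obtain ⟨a, b, c, d, h5, rfl⟩ := exists_mkG g
        rw [trG_mkG] at hg
        rw [dtG_mkG] at hg2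
        apply pow_eq_one_of_trG p
        · rw [hz', mkG_mul, trG_mkG]
          field_simp
          linear_combination hg
        · rw [hz', mkG_mul, dtG_mkG]
          field_simp
          linear_combination hg2
      have h3 := Cfsg.Agent.Blocks.ModularTraces.trace_eq_of_commute p ρ (x := g * z') (y := z) (hzc _) hu
      rw [mul_assoc, hzz, mul_one] at h3
      exact h3
    rw [key g hs hs1, key g' (h ▸ hs) (hd ▸ hs1)]
  · obtain ⟨C, h1, hC⟩ := conj_compG g hτ
    obtain ⟨C', h1', hC'⟩ := conj_compG g' (h ▸ hd ▸ hτ)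
    have key : ∀ (C x : GL2 K), LinearMap.trace k V (ρ (C * x * C⁻¹)) = LinearMap.trace k V (ρ x) := by
      intro C x
      rw [map_mul, LinearMap.trace_mul_comm, ← map_mul, ← mul_assoc, inv_mul_cancel, one_mul]
    rw [hC, hC', key, key]
    congr 2
    simp only [h, hd]

/-- fibres of the norm -/
theorem sum_nm_fiber {M : Type*} [AddCommMonoid M] (ε : K) (G : K × K → M) :
    ∑ y : {y : K × K // nm ε y ≠ 0}, G y.1 = ∑ n : Kˣ, ∑ y : {y : K × K // nm ε y = n}, G y.1 := by
  rw [← Fintype.sum_sigma' (f := fun (n : Kˣ) (y : {y : K × K // nm ε y = n}) => G y.1)]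
  refine Fintype.sum_equiv
    { toFun := fun y => ⟨Units.mk0 (nm ε y.1) y.2, ⟨y.1, rfl⟩⟩
      invFun := fun s => ⟨s.2.1, fun h => s.1.ne_zero (s.2.2.symm.trans h)⟩
      left_inv := fun y => rfl
      right_inv := fun s => by
        obtain ⟨n, y, hy⟩ := s
        have h0 : nm ε y ≠ 0 := fun h => n.ne_zero (hy.symm.trans h)
        have : Units.mk0 (nm ε y) h0 = n := Units.ext hy
        subst this
        rfl } _ _ fun y => rfl

/-- **Lemma G**, irreducible case. -/
theorem splitG_of_nonsplit_irr [IsAlgClosed k] [FiniteDimensional k V] {p : ℕ} [Fact p.Prime] [CharP k p] [CharP K p]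
    (hp2 : p ≠ 2) (ρ : Representation k (GL2 K) V) (hρ : ρ.IsIrreducible) {ε : K} (hε : ¬ IsSquare ε)
    (hU : ∑ x, ρ (uG x) = 0) (hM : ∑ y, ρ (tN ε y) = 0) : ∑ a, ρ (tG a) = 0 := by
  have h2 : ringChar K ≠ 2 := by rw [ringChar.eq K p]; exact hp2
  let F : K → K → k := fun τ δ => if h : δ ≠ 0 then LinearMap.trace k V (ρ (compG τ δ h)) else 0
  have hdt : ∀ g : GL2 K, dtG g ≠ 0 := by
    intro g
    obtain ⟨a, b, c, d, h5, rfl⟩ := exists_mkG g
    exact h5
  have hF : ∀ g, LinearMap.trace k V (ρ g) = F (trG g) (dtG g) := by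
    intro g
    have h1 : F (trG g) (dtG g) = LinearMap.trace k V (ρ (compG (trG g) (dtG g) (hdt g))) := dif_pos (hdt g)
    rw [h1]
    refine trace_eq_of_trG hp2 ρ ?_ ?_
    · rw [compG, trG_mkG, zero_add]
    · rw [compG, dtG_mkG]; ring
  -- unipotent sums
  have hU1 : ∀ δ : K, δ ≠ 0 → ∑ τ, F τ δ = 0 := by
    intro δ hδ
    have h1 : LinearMap.trace k V ((∑ x, ρ (uG x)) * ρ (mkG 0 (-δ) 1 0 (by simpa using hδ))) = 0 := by
      rw [hU, zero_mul, map_zero]
    rw [Finset.sum_mul, map_sum] at h1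
    rw [← h1]
    refine Finset.sum_congr rfl fun y _ => ?_
    rw [← map_mul ρ, hF, uG, mkG_mul, trG_mkG, dtG_mkG]
    congr 1 <;> ring
  -- sums over the non-split torus
  have key : ∀ (w t : K × K) (D : K), D ≠ 0 → nm ε w - nm ε t = D →
      ∑ y : {y : K × K // nm ε y ≠ 0}, F (2 * (ml ε y.1 w).1) (nm ε y.1 * D) = 0 := by
    intro w t D hD hwt
    let g : GL2 K := mkG (w.1 + t.1) (ε * (w.2 - t.2)) (w.2 + t.2) (w.1 - t.1) (by
      have : (w.1 + t.1) * (w.1 - t.1) - ε * (w.2 - t.2) * (w.2 + t.2) = D := by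
        rw [← hwt]
        simp only [nm]
        ring
      rw [this]
      exact hD)
    have h1 : LinearMap.trace k V ((∑ y, ρ (tN ε y)) * ρ g) = 0 := by rw [hM, zero_mul, map_zero]
    rw [Finset.sum_mul, map_sum] at h1
    rw [← h1]
    refine Finset.sum_congr rfl fun y _ => ?_
    rw [← map_mul ρ, hF]
    rw [tN, mkG_mul, trG_mkG, dtG_mkG, ← hwt]
    congr 1
    · simp only [ml]; ring
    · simp only [nm]; ring
  have hM1 : ∀ D : K, D ≠ 0 → ∑ y : {y : K × K // nm ε y ≠ 0}, F (2 * y.1.1) (nm ε y.1 * D) = 0 := by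
    intro D hD
    obtain ⟨t, ht⟩ := exists_nm h2 hε (1 - D)
    have h3 := key (1, 0) t D hD (by rw [ht]; simp [nm])
    rw [← h3]
    refine Finset.sum_congr rfl fun y _ => ?_
    congr 1
    simp [ml]
  have hM0 : ∑ n : Kˣ, F 0 n = 0 := by
    obtain ⟨t, ht⟩ := exists_nm h2 hε (-1)
    have h3 := key (0, 0) t 1 one_ne_zero (by rw [ht]; simp [nm])
    have h5 : ∀ y : {y : K × K // nm ε y ≠ 0}, F (2 * (ml ε y.1 (0, 0)).1) (nm ε y.1 * 1) = F 0 (nm ε y.1) := by
      intro y
      congr 1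
      · simp [ml]
      · rw [mul_one]
    rw [Finset.sum_congr rfl fun y _ => h5 y, sum_nm_fiber ε (fun y => F 0 (nm ε y))] at h3
    rw [← h3]
    refine Finset.sum_congr rfl fun n _ => ?_
    rw [Finset.sum_congr rfl fun (y : {y : K × K // nm ε y = n}) _ => show F 0 (nm ε y.1) = F 0 n by rw [y.2],
      Finset.sum_const, Finset.card_univ, card_nm_one h2 hε n.ne_zero,
      nsmul_eq_mul, Nat.cast_add, card_cast_zero k (p := p), zero_add, Nat.cast_one, one_mul]
  apply sum_eq_zero_of_trace ρ hρ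
  intro g
  obtain ⟨a, b, c, d, h, rfl⟩ := exists_mkG g
  set D := a * d - b * c with hD
  have e1 : ∀ s : Kˣ × Kˣ, LinearMap.trace k V (ρ (tG s * mkG a b c d h)) = F (s.1 * a + s.2 * d) (s.1 * s.2 * D) := by
    intro s
    rw [hF]
    rw [tG_apply, mkG_mul, trG_mkG, dtG_mkG, hD]
    congr 1 <;> ring
  rw [Finset.sum_congr rfl fun s _ => e1 s]
  -- sums over units
  have hunit : ∀ (δ : K), δ ≠ 0 → ∑ s : Kˣ, F s δ = - F 0 δ := by
    intro δ hδ
    have h4 : ∑ τ, F τ δ = F 0 δ + ∑ s : Kˣ, F s δ := by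
      rw [← Finset.add_sum_erase _ _ (Finset.mem_univ (0 : K))]
      congr 1
      refine (Finset.sum_bij' (fun (s : Kˣ) _ => (s : K)) (fun x hx => Units.mk0 x (Finset.ne_of_mem_erase hx)) ?_ ?_ ?_ ?_ ?_).symm
      · intro s _
        exact Finset.mem_erase.2 ⟨s.ne_zero, Finset.mem_univ _⟩
      · intro x hx
        exact Finset.mem_univ _
      · intro s _
        exact Units.ext rfl
      · intro x hx
        rfl
      · intro s _
        rfl
    rw [hU1 δ hδ] at h4
    linear_combination -h4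
  have hD0 : D ≠ 0 := h
  -- `∑_{s, t} F (s x) (s t D) = 0`
  have hsum0 : ∀ x : Kˣ, ∑ s : Kˣ × Kˣ, F (s.1 * x) (s.1 * s.2 * D) = 0 := by
    intro x
    have h3 : ∑ s : Kˣ × Kˣ, F (s.1 * x) (s.1 * s.2 * D) = ∑ s : Kˣ × Kˣ, F s.1 s.2 := by
      refine Fintype.sum_equiv
        { toFun := fun s => (s.1 * x, s.1 * s.2 * Units.mk0 D hD0)
          invFun := fun s => (s.1 * x⁻¹, (s.1 * x⁻¹)⁻¹ * s.2 * (Units.mk0 D hD0)⁻¹)
          left_inv := fun s => by
            refine Prod.ext ?_ ?_
            · simp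
            · simp [mul_assoc]
          right_inv := fun s => by
            refine Prod.ext ?_ ?_
            · simp
            · simp only [mul_assoc, _root_.mul_inv_rev, _root_.inv_inv, _root_.inv_mul_cancel_left, _root_.mul_inv_cancel_left, _root_.inv_mul_cancel, _root_.mul_one] } _ _ fun s => by simp only [_root_.mul_inv_rev, _root_.inv_inv, _root_.Equiv.coe_fn_mk, _root_.Units.val_mul, _root_.Units.val_mk0]
    rw [h3, Fintype.sum_prod_type_right, Finset.sum_congr rfl fun (δ : Kˣ) _ => hunit δ δ.ne_zero, Finset.sum_neg_distrib, hM0,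
      neg_zero]
  by_cases ha : a = 0
  · subst ha
    by_cases hd : d = 0
    · subst hd
      have h3 : ∑ s : Kˣ × Kˣ, F (s.1 * 0 + s.2 * 0) (s.1 * s.2 * D) = ∑ s : Kˣ × Kˣ, F 0 s.2 := by
        refine Fintype.sum_equiv
          { toFun := fun s => (s.1, s.1 * s.2 * Units.mk0 D hD0)
            invFun := fun s => (s.1, s.1⁻¹ * s.2 * (Units.mk0 D hD0)⁻¹)
            left_inv := fun s => by
              refine Prod.ext rfl ?_
              simp [mul_assoc]
            right_inv := fun s => by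
              refine Prod.ext rfl ?_
              simp [mul_assoc] } _ _ fun s => by simp
      rw [h3, Fintype.sum_prod_type]
      simp only [hM0, Finset.sum_const_zero]
    · have h3 := hsum0 (Units.mk0 d hd)
      rw [← h3]
      refine Fintype.sum_equiv (Equiv.prodComm Kˣ Kˣ) _ _ fun s => ?_
      simp [mul_comm]
  · by_cases hd : d = 0
    · subst hd
      have h3 := hsum0 (Units.mk0 a ha)
      rw [← h3]
      refine Finset.sum_congr rfl fun s _ => ?_
      rw [mul_zero, add_zero, Units.val_mk0]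
    · -- generic case
      set D' : K := D / (a * d) with hD'
      have hD'0 : D' ≠ 0 := div_ne_zero hD0 (mul_ne_zero ha hd)
      have h3 : ∑ s : Kˣ × Kˣ, F (s.1 * a + s.2 * d) (s.1 * s.2 * D) =
          ∑ s : Kˣ × Kˣ, F (s.2 + s.1 * (s.2⁻¹ : Kˣ)) (s.1 * D') := by
        refine Fintype.sum_equiv
          { toFun := fun s => (s.1 * Units.mk0 a ha * (s.2 * Units.mk0 d hd), s.1 * Units.mk0 a ha)
            invFun := fun s => (s.2 * (Units.mk0 a ha)⁻¹, s.1 * s.2⁻¹ * (Units.mk0 d hd)⁻¹)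
            left_inv := fun s => by
              refine Prod.ext ?_ ?_
              · simp
              · simp only [mul_inv]
                rw [mul_comm (s.1 * Units.mk0 a ha) (s.2 * Units.mk0 d hd)]
                simp only [mul_assoc, _root_.mul_inv_cancel_comm_assoc, _root_.mul_inv_cancel, _root_.mul_one]
            right_inv := fun s => by
              refine Prod.ext ?_ ?_
              · simp only
                rw [inv_mul_cancel_right, inv_mul_cancel_right, mul_comm s.1, ← mul_assoc, mul_inv_cancel, one_mul]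
              · simp } _ _ fun s => ?_
        simp only [Equiv.coe_fn_mk, Units.val_mul, Units.val_mk0, mul_inv, Units.val_inv_eq_inv_val, hD']
        have hs1 : (s.1 : K) ≠ 0 := s.1.ne_zero
        congr 1
        · field_simp
        · field_simp
      rw [h3, Fintype.sum_prod_type]
      have h4 : ∀ n : Kˣ, ∑ s : Kˣ, F (s + n * (s⁻¹ : Kˣ)) (n * D') =
          - ∑ y : {y : K × K // nm ε y = n}, F (2 * y.1.1) (n * D') := by
        intro n
        have h5 := count (M := k) h2 hε n.ne_zero (fun τ => F τ (n * D'))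
        rw [hU1 _ (mul_ne_zero n.ne_zero hD'0), smul_zero] at h5
        exact eq_neg_of_add_eq_zero_left h5
      rw [Finset.sum_congr rfl fun n _ => h4 n, Finset.sum_neg_distrib, neg_eq_zero]
      have h6 := hM1 D' hD'0
      rw [sum_nm_fiber ε (fun y => F (2 * y.1) (nm ε y * D'))] at h6
      rw [← h6]
      refine Finset.sum_congr rfl fun n _ => Finset.sum_congr rfl fun y _ => ?_
      rw [y.2]

end Cfsg.Agent.H373.OC
end

-- part: H373/OC/Chain
section
/-!
# The chain of tori (helper373)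
-/

set_option autoImplicit false
set_option linter.unusedSectionVars false

namespace Cfsg.Agent.H373.OC

open Module Matrix

universe u v w

section general

variable {K : Type u} [Field K] [Fintype K] [DecidableEq K] {k : Type v} [Field k] [IsAlgClosed k]
  {V : Type w} [AddCommGroup V] [Module k V] [FiniteDimensional k V]

theorem card_units_ne_zero (k : Type v) [Field k] {p : ℕ} [Fact p.Prime] [CharP k p] [CharP K p] :
    ((Fintype.card Kˣ : ℕ) : k) ≠ 0 := by
  rw [Fintype.card_units, Nat.cast_sub (Fintype.card_pos), card_cast_zero k (p := p), Nat.cast_one, zero_sub]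
  exact neg_ne_zero.2 one_ne_zero

/-- **Lemma S.** -/
theorem split_of_nonsplit {p : ℕ} [Fact p.Prime] [CharP k p] [CharP K p]
    (hp2 : p ≠ 2) (ρ : Representation k (SL2 K) V) {ε : K} (hε : ¬ IsSquare ε)
    (hU : ∑ x, ρ (uS x) = 0) (hM : ∑ y, ρ (tM ε y) = 0) : ∑ a, ρ (tS a) = 0 :=
  reduce uS (tM ε) tS (card_units_ne_zero k (p := p))
    (fun _ _ _ _ σ hσ h1 h2 => split_of_nonsplit_irr hp2 σ hσ hε h1 h2) _ V ρ rfl hU hM

/-- **Lemma G.** -/
theorem splitG_of_nonsplit {p : ℕ} [Fact p.Prime] [CharP k p] [CharP K p]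
    (hp2 : p ≠ 2) (ρ : Representation k (GL2 K) V) {ε : K} (hε : ¬ IsSquare ε)
    (hU : ∑ x, ρ (uG x) = 0) (hM : ∑ y, ρ (tN ε y) = 0) : ∑ a, ρ (tG a) = 0 :=
  reduce uG (tN ε) tG (by
      rw [Fintype.card_prod, Nat.cast_mul]
      exact mul_ne_zero (card_units_ne_zero k (p := p)) (card_units_ne_zero k (p := p)))
    (fun _ _ _ _ σ hσ h1 h2 => splitG_of_nonsplit_irr hp2 σ hσ hε h1 h2) _ V ρ rfl hU hM

/-- **Lemma A.** -/
theorem split_ne_zero [Nontrivial V] {p : ℕ} [Fact p.Prime] [CharP k p] [CharP K p]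
    (hp2 : p ≠ 2) (ρ : Representation k (SL2 K) V) (hcard : Fintype.card K = p) (j : K →+* k)
    (hneg : ρ (-1) = 1) (hU : ∑ x, ρ (uS x) = 0) : ∑ a, ρ (tS a) ≠ 0 := by
  obtain ⟨W, hW⟩ := TraceLemma.exists_irreducible ρ
  have h1 : W.toRepresentation (-1) = 1 := by
    apply LinearMap.ext
    intro w
    apply Subtype.ext
    exact LinearMap.congr_fun hneg (w : V)
  have h2 : ∑ x, W.toRepresentation (uS x) = 0 := by
    apply LinearMap.ext
    intro w
    apply Subtype.ext
    have := LinearMap.congr_fun hU (w : V)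
    rw [LinearMap.sum_apply] at this ⊢
    rw [AddSubmonoidClass.coe_finsetSum]
    exact this
  have h3 := split_ne_zero_irr hp2 W.toRepresentation hW hcard j h1 h2
  intro h
  apply h3
  apply LinearMap.ext
  intro w
  apply Subtype.ext
  have := LinearMap.congr_fun h (w : V)
  rw [LinearMap.sum_apply] at this ⊢
  rw [AddSubmonoidClass.coe_finsetSum]
  exact this

end general

section chain

variable {K : Type u} [Field K] [Fintype K] [DecidableEq K] {k : Type v} [Field k] [IsAlgClosed k]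
  {V : Type w} [AddCommGroup V] [Module k V] [FiniteDimensional k V] {H : Type*} [Group H]

/-- sums over a prime field -/
theorem sum_line {p : ℕ} [Fact p.Prime] [CharP K p] (hcard : Fintype.card K = p) (ρ : Representation k H V)
    (hno : ∀ u : H, u ^ p = 1 → ∑ i ∈ Finset.range p, ρ (u ^ i) = 0) (U : K → H) (hU : ∀ a b, U (a + b) = U a * U b) :
    ∑ a : K, ρ (U a) = 0 := by
  have hU0 : U 0 = 1 := by
    have h1 := hU 0 0
    rw [add_zero] at h1
    exact left_eq_mul.1 h1
  have hUi : ∀ i : ℕ, U (i : K) = U 1 ^ i := by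
    intro i
    induction i with
    | zero => rw [Nat.cast_zero, hU0, pow_zero]
    | succ i ih => rw [Nat.cast_succ, hU, ih, pow_succ]
  have h1 : U 1 ^ p = 1 := by rw [← hUi, CharP.cast_eq_zero, hU0]
  rw [← hno (U 1) h1, ← Fin.sum_univ_eq_sum_range (fun i => ρ (U 1 ^ i)) p]
  refine (Fintype.sum_bijective (fun i : Fin p => ((i : ℕ) : K)) ?_ _ _ fun i => ?_).symm
  · rw [Fintype.bijective_iff_injective_and_card]
    refine ⟨?_, by rw [Fintype.card_fin, hcard]⟩
    intro a b hab
    have h2 : ((a : ℕ) : K) = ((b : ℕ) : K) := hab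
    rw [CharP.natCast_eq_natCast K p] at h2
    exact Fin.ext (Nat.ModEq.eq_of_lt_of_lt h2 a.2 b.2)
  · rw [hUi]

theorem uS_add (x y : K) : uS (x + y) = uS x * uS y := by
  rw [uS, uS, uS, mk2_mul]
  exact mk2_congr (by ring) (by ring) (by ring) (by ring)

theorem uG_add (x y : K) : uG (x + y) = uG x * uG y := by
  rw [uG, uG, uG, mkG_mul]
  exact mkG_congr (by ring) (by ring) (by ring) (by ring)

/-- a vector fixed by both split tori -/
theorem prod_ne_zero {p : ℕ} [Fact p.Prime] [CharP k p] [CharP K p] (hp2 : p ≠ 2) (hcard : Fintype.card K = p)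
    (j : K →+* k) (γ₁ γ₂ : SL2 K →* H) (hcomm : ∀ g h, γ₁ g * γ₂ h = γ₂ h * γ₁ g) (hz : γ₁ (-1) * γ₂ (-1) = 1)
    (ρ : Representation k H V) (hno : ∀ u : H, u ^ p = 1 → ∑ i ∈ Finset.range p, ρ (u ^ i) = 0)
    (hne : ρ (γ₁ (-1)) ≠ -1) : (∑ a : Kˣ × Kˣ, ρ (γ₁ (tS a.1) * γ₂ (tS a.2))) ≠ 0 := by
  have hzz : γ₁ (-1) * γ₁ (-1) = 1 := by rw [← map_mul, neg_mul_neg, one_mul, map_one]
  have hz2 : γ₂ (-1) = γ₁ (-1) := by
    rw [← mul_right_inj (γ₁ (-1)), hz, hzz]
  set z := γ₁ (-1) with hzdef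
  -- a fixed vector of `z`
  obtain ⟨v, hv⟩ : ∃ v, (ρ z + 1) v ≠ 0 := by
    by_contra hcon
    push Not at hcon
    apply hne
    apply LinearMap.ext
    intro v
    have := hcon v
    rw [LinearMap.add_apply] at this
    rw [LinearMap.neg_apply]
    exact eq_neg_of_add_eq_zero_left this
  have hρz : ∀ x, ρ z (ρ z x) = x := by
    intro x
    rw [← Module.End.mul_apply, ← map_mul, hzz, map_one]; rfl
  let W : Submodule k V := LinearMap.ker (ρ z - 1)
  have hW : ∀ x, x ∈ W ↔ ρ z x = x := by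
    intro x
    rw [LinearMap.mem_ker, LinearMap.sub_apply, sub_eq_zero]
    rfl
  have hvW : (ρ z + 1) v ∈ W := by
    rw [hW, LinearMap.add_apply, map_add, hρz]
    show v + ρ z v = ρ z v + v
    exact add_comm _ _
  have hz1 : ∀ g, z * γ₁ g = γ₁ g * z := by
    intro g
    rw [hzdef, ← map_mul, ← map_mul, neg_one_mul, mul_neg_one]
  have hz3 : ∀ g, z * γ₂ g = γ₂ g * z := by
    intro g
    rw [hzdef, hcomm]
  have hle1 : ∀ g, W ≤ W.comap (ρ (γ₁ g)) := by
    intro g x hx
    rw [Submodule.mem_comap, hW, ← Module.End.mul_apply, ← map_mul, hz1, map_mul, Module.End.mul_apply, (hW x).1 hx]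
  have hle2 : ∀ g, W ≤ W.comap (ρ (γ₂ g)) := by
    intro g x hx
    rw [Submodule.mem_comap, hW, ← Module.End.mul_apply, ← map_mul, hz3, map_mul, Module.End.mul_apply, (hW x).1 hx]
  let ρ1 : Representation k (SL2 K) V := ρ.comp γ₁
  let σ1 : Representation k (SL2 K) W := ρ1.subrepresentation W hle1
  have hntW : Nontrivial W := ⟨⟨⟨_, hvW⟩, 0, fun h => hv (congrArg Subtype.val h)⟩⟩
  have hs1 : ∀ g (x : W), ((σ1 g x : W) : V) = ρ (γ₁ g) x := fun g x => rfl
  have hneg1 : σ1 (-1) = 1 := by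
    apply LinearMap.ext
    intro x
    apply Subtype.ext
    rw [hs1]
    exact (hW x).1 x.2
  have hU1 : ∑ x, σ1 (uS x) = 0 := by
    apply LinearMap.ext
    intro x
    apply Subtype.ext
    rw [LinearMap.sum_apply, AddSubmonoidClass.coe_finsetSum]
    have h3 := sum_line hcard ρ hno (fun a => γ₁ (uS a)) (fun a b => by rw [uS_add, map_mul])
    have h4 := LinearMap.congr_fun h3 (x : V)
    rw [LinearMap.sum_apply] at h4
    exact h4
  have hE1 := split_ne_zero hp2 σ1 hcard j hneg1 hU1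
  obtain ⟨x, hx⟩ : ∃ x, (∑ a, σ1 (tS a)) x ≠ 0 := by
    by_contra hcon
    push Not at hcon
    exact hE1 (LinearMap.ext hcon)
  -- the second factor
  let W2 : Submodule k V := W ⊓ LinearMap.range (∑ a, ρ (γ₁ (tS a)))
  have hcE : ∀ g y, ρ (γ₂ g) ((∑ a, ρ (γ₁ (tS a))) y) = (∑ a, ρ (γ₁ (tS a))) (ρ (γ₂ g) y) := by
    intro g y
    rw [LinearMap.sum_apply, LinearMap.sum_apply, map_sum]
    refine Finset.sum_congr rfl fun a _ => ?_
    rw [← Module.End.mul_apply, ← Module.End.mul_apply, ← map_mul, ← map_mul, hcomm]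
  have hle3 : ∀ g, W2 ≤ W2.comap (ρ (γ₂ g)) := by
    rintro g y ⟨hy1, y', hy2⟩
    refine ⟨hle2 g hy1, ρ (γ₂ g) y', ?_⟩
    rw [← hcE, hy2]
  let ρ2 : Representation k (SL2 K) V := ρ.comp γ₂
  let σ2 : Representation k (SL2 K) W2 := ρ2.subrepresentation W2 hle3
  have hs2 : ∀ g (x : W2), ((σ2 g x : W2) : V) = ρ (γ₂ g) x := fun g x => rfl
  have hx2 : (((∑ a, σ1 (tS a)) x : W) : V) ∈ W2 := by
    refine ⟨((∑ a, σ1 (tS a)) x : W).2, x, ?_⟩
    rw [LinearMap.sum_apply, LinearMap.sum_apply, AddSubmonoidClass.coe_finsetSum]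
    rfl
  have hntW2 : Nontrivial W2 := ⟨⟨⟨_, hx2⟩, 0, fun h => hx (by
    apply Subtype.ext
    exact congrArg (Subtype.val : W2 → V) h)⟩⟩
  have hneg2 : σ2 (-1) = 1 := by
    apply LinearMap.ext
    intro x
    apply Subtype.ext
    rw [hs2, hz2]
    exact (hW x).1 x.2.1
  have hU2 : ∑ x, σ2 (uS x) = 0 := by
    apply LinearMap.ext
    intro x
    apply Subtype.ext
    rw [LinearMap.sum_apply, AddSubmonoidClass.coe_finsetSum]
    have h3 := sum_line hcard ρ hno (fun a => γ₂ (uS a)) (fun a b => by rw [uS_add, map_mul])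
    have h4 := LinearMap.congr_fun h3 (x : V)
    rw [LinearMap.sum_apply] at h4
    exact h4
  have hE2 := split_ne_zero hp2 σ2 hcard j hneg2 hU2
  intro h0
  apply hE2
  apply LinearMap.ext
  intro y
  apply Subtype.ext
  obtain ⟨y', hy'⟩ := y.2.2
  rw [LinearMap.sum_apply, AddSubmonoidClass.coe_finsetSum]
  have h5 := LinearMap.congr_fun h0 y'
  rw [LinearMap.sum_apply, Fintype.sum_prod_type, Finset.sum_comm] at h5
  rw [LinearMap.zero_apply] at h5
  show ∑ a, ((σ2 (tS a) y : W2) : V) = 0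
  rw [← h5]
  refine Finset.sum_congr rfl fun a _ => ?_
  rw [hs2, ← hy', hcE, LinearMap.sum_apply]
  refine Finset.sum_congr rfl fun b _ => ?_
  rw [← Module.End.mul_apply, ← map_mul]

variable {ε : K} [hf : Fact (∀ r : K, r ^ 2 ≠ ε + 0 * r)] [Fintype (QuadraticAlgebra K ε 0)]
  [DecidableEq (QuadraticAlgebra K ε 0)]

theorem nm_unit (ζ : (QuadraticAlgebra K ε 0)ˣ) : nm ε (ζ.1.re, ζ.1.im) ≠ 0 := by
  intro h
  apply ζ.ne_zero
  rw [← QuadraticAlgebra.norm_eq_zero_iff_eq_zero, QuadraticAlgebra.norm_def]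
  simp only [nm] at h
  linear_combination h

/-- **The chain of tori.** -/
theorem chain {p : ℕ} [Fact p.Prime] [CharP k p] [CharP K p] (hp2 : p ≠ 2) (hcard : Fintype.card K = p)
    (j : K →+* k) {ε₂ : QuadraticAlgebra K ε 0} (hε₂ : ¬ IsSquare ε₂)
    (α : SL2 (QuadraticAlgebra K ε 0) →* H) (β : GL2 K →* H) (γ₁ γ₂ : SL2 K →* H)
    (hcomm : ∀ g h, γ₁ g * γ₂ h = γ₂ h * γ₁ g) (hz : γ₁ (-1) * γ₂ (-1) = 1)
    (hαβ : ∀ ζ : (QuadraticAlgebra K ε 0)ˣ, α (tS ζ) = β (tN ε ⟨(ζ.1.re, ζ.1.im), nm_unit ζ⟩))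
    (hβγ : ∀ a : Kˣ × Kˣ, β (tG a) = γ₁ (tS a.1) * γ₂ (tS a.2))
    (ρ : Representation k H V) (hno : ∀ u : H, u ^ p = 1 → ∑ i ∈ Finset.range p, ρ (u ^ i) = 0)
    (hx : ∑ y, ρ (α (tM ε₂ y)) = 0) : ρ (γ₁ (-1)) = -1 := by
  have hch : CharP (QuadraticAlgebra K ε 0) p :=
    charP_of_injective_algebraMap (algebraMap K (QuadraticAlgebra K ε 0)).injective p
  have hε : ¬ IsSquare ε := by
    rintro ⟨r, hr⟩
    exact hf.out r (by rw [hr]; ring)
  -- step 1
  have h1 : ∑ x, (ρ.comp α) (uS x) = 0 := by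
    have h3 : ∀ b : K, ∑ a : K, ρ (α (uS (⟨a, b⟩ : QuadraticAlgebra K ε 0))) = 0 := by
      intro b
      have h4 := sum_line hcard ρ hno (fun a => α (uS (⟨a, 0⟩ : QuadraticAlgebra K ε 0))) (fun a b => by
        rw [← map_mul, ← uS_add]
        congr 2
        ext <;> simp)
      have h5 : ∀ a : K, ρ (α (uS (⟨a, b⟩ : QuadraticAlgebra K ε 0))) =
          ρ (α (uS (⟨0, b⟩ : QuadraticAlgebra K ε 0))) * ρ (α (uS (⟨a, 0⟩ : QuadraticAlgebra K ε 0))) := by
        intro a
        rw [← map_mul ρ, ← map_mul α, ← uS_add]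
        congr 3
        ext <;> simp
      rw [Finset.sum_congr rfl fun a _ => h5 a, ← Finset.mul_sum, h4, mul_zero]
    have h6 : ∑ x, ρ (α (uS x)) = ∑ y : K × K, ρ (α (uS (⟨y.1, y.2⟩ : QuadraticAlgebra K ε 0))) :=
      Fintype.sum_equiv (QuadraticAlgebra.equivProd ε 0) _ _ fun x => rfl
    show ∑ x, ρ (α (uS x)) = 0
    rw [h6, Fintype.sum_prod_type_right]
    exact Finset.sum_eq_zero fun b _ => h3 b
  -- step 2
  have h2 : ∑ a, (ρ.comp α) (tS a) = 0 := split_of_nonsplit hp2 (ρ.comp α) hε₂ h1 hx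
  -- step 3
  have h3 : ∑ y, (ρ.comp β) (tN ε y) = 0 := by
    rw [← h2]
    refine (Fintype.sum_equiv
      { toFun := fun ζ : (QuadraticAlgebra K ε 0)ˣ => (⟨(ζ.1.re, ζ.1.im), nm_unit ζ⟩ : {y : K × K // nm ε y ≠ 0})
        invFun := fun y => Units.mk0 ⟨y.1.1, y.1.2⟩ (by
          intro h
          apply y.2
          have h5 := congrArg QuadraticAlgebra.re h
          have h6 := congrArg QuadraticAlgebra.im h
          simp only [QuadraticAlgebra.re_zero, QuadraticAlgebra.im_zero] at h5 h6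
          simp [nm, h5, h6])
        left_inv := fun ζ => Units.ext rfl
        right_inv := fun y => rfl } _ _ fun ζ => ?_).symm
    show ρ (α (tS ζ)) = ρ (β _)
    rw [hαβ]
    rfl
  have h3U : ∑ x, (ρ.comp β) (uG x) = 0 := sum_line hcard ρ hno (fun a => β (uG a)) (fun a b => by rw [uG_add, map_mul])
  have h4 : ∑ a, (ρ.comp β) (tG a) = 0 := splitG_of_nonsplit hp2 (ρ.comp β) hε h3U h3
  by_contra hne
  apply prod_ne_zero hp2 hcard j γ₁ γ₂ hcomm hz ρ hno hne
  rw [← h4]
  refine Finset.sum_congr rfl fun a _ => ?_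
  rw [← hβγ]
  rfl

end chain

end Cfsg.Agent.H373.OC
end

-- part: H373/OC/SpFour
section
/-!
# Subgroups of `Sp_4(K)` (helper373)

`al : SL_2(K[√ε]) → Sp_4(K)`, `be : GL_2(K) → Sp_4(K)`, `ga : SL_2(K) × SL_2(K) → Sp_4(K)`.
-/

set_option autoImplicit false
set_option linter.unusedSectionVars false

namespace Cfsg.Agent.H373.OC

open Matrix

universe u

variable {K : Type u} [Field K]

abbrev M2 (K : Type u) := Matrix (Fin 2) (Fin 2) K

/-- `Sp_4` -/
abbrev Sp4 (K : Type u) [Field K] := Matrix.symplecticGroup (Fin 2) K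

theorem mem_sp {A B C D : M2 K} (h1 : A * Bᵀ = B * Aᵀ) (h2 : C * Dᵀ = D * Cᵀ) (h3 : A * Dᵀ - B * Cᵀ = 1) :
    Matrix.fromBlocks A B C D ∈ Matrix.symplecticGroup (Fin 2) K := by
  have h4 : D * Aᵀ - C * Bᵀ = 1 := by
    have := congrArg Matrix.transpose h3
    rwa [transpose_sub, transpose_mul, transpose_mul, transpose_transpose, transpose_transpose, transpose_one] at this
  rw [SymplecticGroup.mem_iff, Matrix.J, Matrix.fromBlocks_transpose, Matrix.fromBlocks_multiply,
    Matrix.fromBlocks_multiply]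
  congr 1
  · simp only [Matrix.mul_zero, Matrix.mul_one, Matrix.mul_neg, zero_add, add_zero, Matrix.neg_mul]
    rw [h1]; simp
  · simp only [Matrix.mul_zero, Matrix.mul_one, Matrix.mul_neg, zero_add, add_zero, Matrix.neg_mul]
    rw [← h3]; abel
  · simp only [Matrix.mul_zero, Matrix.mul_one, Matrix.mul_neg, zero_add, add_zero, Matrix.neg_mul]
    rw [← h4]; abel
  · simp only [Matrix.mul_zero, Matrix.mul_one, Matrix.mul_neg, zero_add, add_zero, Matrix.neg_mul]
    rw [h2]; simp

/-- a symplectic matrix in block form -/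
def mkSp (A B C D : M2 K) (h1 : A * Bᵀ = B * Aᵀ) (h2 : C * Dᵀ = D * Cᵀ) (h3 : A * Dᵀ - B * Cᵀ = 1) : Sp4 K :=
  ⟨Matrix.fromBlocks A B C D, mem_sp h1 h2 h3⟩

theorem mkSp_ext {g h : Sp4 K} (H : g.1 = h.1) : g = h := Subtype.ext H

/-- `SL_2 × SL_2` -/
def ga : SL2 K × SL2 K →* Sp4 K where
  toFun g := mkSp (diagonal ![g.1.1 0 0, g.2.1 0 0]) (diagonal ![g.1.1 0 1, g.2.1 0 1])
    (diagonal ![g.1.1 1 0, g.2.1 1 0]) (diagonal ![g.1.1 1 1, g.2.1 1 1])
    (by rw [diagonal_transpose, diagonal_transpose, diagonal_mul_diagonal, diagonal_mul_diagonal]; simp only [mul_comm])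
    (by rw [diagonal_transpose, diagonal_transpose, diagonal_mul_diagonal, diagonal_mul_diagonal]; simp only [mul_comm])
    (by
      have h1 := g.1.2
      have h2 := g.2.2
      rw [det_fin_two] at h1 h2
      rw [diagonal_transpose, diagonal_transpose, diagonal_mul_diagonal, diagonal_mul_diagonal, diagonal_sub,
        ← diagonal_one]
      congr 1
      funext i
      fin_cases i
      · exact h1
      · exact h2)
  map_one' := by
    apply mkSp_ext
    show Matrix.fromBlocks _ _ _ _ = 1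
    rw [← Matrix.fromBlocks_one]
    congr 1
    · rw [← diagonal_one]; congr 1; funext i; fin_cases i <;> rfl
    · rw [← diagonal_zero]; congr 1; funext i; fin_cases i <;> rfl
    · rw [← diagonal_zero]; congr 1; funext i; fin_cases i <;> rfl
    · rw [← diagonal_one]; congr 1; funext i; fin_cases i <;> rfl
  map_mul' g h := by
    apply mkSp_ext
    show Matrix.fromBlocks _ _ _ _ = Matrix.fromBlocks _ _ _ _ * Matrix.fromBlocks _ _ _ _
    rw [Matrix.fromBlocks_multiply]
    have e : ∀ (g h : SL2 K) (i j : Fin 2), (g * h).1 i j = g.1 i 0 * h.1 0 j + g.1 i 1 * h.1 1 j := by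
      intro g h i j
      show (g.1 * h.1) i j = _
      rw [Matrix.mul_apply, Fin.sum_univ_two]
    congr 1 <;>
    · rw [diagonal_mul_diagonal, diagonal_mul_diagonal, diagonal_add]
      congr 1
      funext i
      (revert i; simp only [e, _root_.Fin.forall_fin_succ, _root_.Nat.succ_eq_add_one, Nat.reduceAdd, _root_.Prod.fst_mul, Fin.isValue, _root_.Prod.snd_mul, _root_.Matrix.cons_val_zero, _root_.Matrix.cons_val_succ, _root_.Matrix.cons_val_fin_one, _root_.implies_true, _root_.and_self])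

/-- `GL_2` -/
def be : GL2 K →* Sp4 K where
  toFun g := mkSp g.1 0 0 (g⁻¹).1ᵀ (by simp) (by simp) (by
    rw [transpose_transpose, transpose_zero, mul_zero, sub_zero]
    exact g.mul_inv)
  map_one' := by
    apply mkSp_ext
    show Matrix.fromBlocks _ _ _ _ = 1
    rw [← Matrix.fromBlocks_one]
    congr 1
    rw [inv_one]
    exact transpose_one
  map_mul' g h := by
    apply mkSp_ext
    show Matrix.fromBlocks _ _ _ _ = Matrix.fromBlocks _ _ _ _ * Matrix.fromBlocks _ _ _ _
    rw [Matrix.fromBlocks_multiply]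
    congr 1
    · simp
    · simp
    · simp
    · rw [_root_.mul_inv_rev, Units.val_mul, transpose_mul]
      simp

section al

variable {ε : K}

/-- the regular representation of `K[√ε]` -/
def Mq (x : QuadraticAlgebra K ε 0) : M2 K := !![x.re, ε * x.im; x.im, x.re]

theorem Mq_mul (x y : QuadraticAlgebra K ε 0) : Mq (x * y) = Mq x * Mq y := by
  rw [Mq, Mq, Mq, mul_fin_two]
  simp only [QuadraticAlgebra.re_mul, QuadraticAlgebra.im_mul]
  ext i j
  (revert i j; simp only [_root_.Fin.forall_fin_succ, _root_.MulZeroClass.zero_mul, _root_.add_zero, _root_.Matrix.of_apply, _root_.Matrix.cons_val', _root_.Matrix.cons_val_fin_one, Fin.isValue, _root_.Matrix.cons_val_zero, _root_.Matrix.cons_val_succ, _root_.forall_const, _root_.true_and]) <;> (repeat' with_reducible apply And.intro) <;> ring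

theorem Mq_add (x y : QuadraticAlgebra K ε 0) : Mq (x + y) = Mq x + Mq y := by
  ext i j
  (revert i j; simp only [Mq, _root_.Fin.forall_fin_succ, _root_.QuadraticAlgebra.re_add, _root_.QuadraticAlgebra.im_add, _root_.Matrix.of_apply, _root_.Matrix.cons_val', _root_.Matrix.cons_val_fin_one, _root_.Matrix.add_apply, Fin.isValue, _root_.Matrix.cons_val_zero, _root_.Matrix.cons_val_succ, _root_.forall_const, _root_.true_and, _root_.and_self, _root_.implies_true, _root_.and_true]) <;> (repeat' with_reducible apply And.intro) <;> ring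

theorem Mq_sub (x y : QuadraticAlgebra K ε 0) : Mq (x - y) = Mq x - Mq y := by
  ext i j
  (revert i j; simp only [Mq, _root_.Fin.forall_fin_succ, _root_.QuadraticAlgebra.re_sub, _root_.QuadraticAlgebra.im_sub, _root_.Matrix.of_apply, _root_.Matrix.cons_val', _root_.Matrix.cons_val_fin_one, _root_.Matrix.sub_apply, Fin.isValue, _root_.Matrix.cons_val_zero, _root_.Matrix.cons_val_succ, _root_.forall_const, _root_.true_and, _root_.and_self, _root_.implies_true, _root_.and_true]) <;> (repeat' with_reducible apply And.intro) <;> ring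

theorem Mq_one : Mq (1 : QuadraticAlgebra K ε 0) = 1 := by
  show !![(1 : K), ε * 0; 0, 1] = 1
  rw [one_fin_two, mul_zero]

theorem Mq_zero : Mq (0 : QuadraticAlgebra K ε 0) = 0 := by
  show !![(0 : K), ε * 0; 0, 0] = 0
  rw [mul_zero]
  ext i j
  fin_cases i <;> fin_cases j <;> rfl

variable (ε) in
def Pm : M2 K := !![ε, 0; 0, 1]

variable (ε) in
def Pm' : M2 K := !![ε⁻¹, 0; 0, 1]

theorem Pm_T : (Pm ε)ᵀ = Pm ε := by
  ext i j
  (revert i j; simp only [Pm, _root_.Fin.forall_fin_succ, _root_.Matrix.transpose_apply, _root_.Matrix.of_apply, _root_.Matrix.cons_val', _root_.Matrix.cons_val_fin_one, Fin.isValue, _root_.Matrix.cons_val_zero, _root_.Matrix.cons_val_succ, _root_.forall_const, _root_.and_self, _root_.implies_true])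

theorem Pm'_T : (Pm' ε)ᵀ = Pm' ε := by
  ext i j
  (revert i j; simp only [Pm', _root_.Fin.forall_fin_succ, _root_.Matrix.transpose_apply, _root_.Matrix.of_apply, _root_.Matrix.cons_val', _root_.Matrix.cons_val_fin_one, Fin.isValue, _root_.Matrix.cons_val_zero, _root_.Matrix.cons_val_succ, _root_.forall_const, _root_.and_self, _root_.implies_true])

theorem Pm_mul (hε : ε ≠ 0) : Pm ε * Pm' ε = 1 := by
  rw [Pm, Pm', mul_fin_two, one_fin_two]
  ext i j
  (revert i j; simp [hε, _root_.Fin.forall_fin_succ])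

theorem Pm'_mul (hε : ε ≠ 0) : Pm' ε * Pm ε = 1 := mul_eq_one_comm.1 (Pm_mul hε)

theorem Pm_Mq (x : QuadraticAlgebra K ε 0) : Pm ε * (Mq x)ᵀ = Mq x * Pm ε := by
  ext i j
  (revert i j; simp only [Mq, Pm, Matrix.mul_apply, Fin.sum_univ_two, mul_comm, _root_.Fin.forall_fin_succ, _root_.Matrix.of_apply, _root_.Matrix.cons_val', _root_.Matrix.cons_val_fin_one, _root_.Matrix.transpose_apply, Fin.isValue, _root_.Matrix.cons_val_zero, _root_.Matrix.cons_val_one, _root_.MulZeroClass.zero_mul, _root_.add_zero, _root_.Matrix.cons_val_succ, _root_.one_mul, _root_.zero_add, _root_.forall_const, _root_.MulZeroClass.mul_zero, _root_.and_self, _root_.mul_one, _root_.implies_true])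

theorem Pm'_Mq (hε : ε ≠ 0) (x : QuadraticAlgebra K ε 0) : (Mq x)ᵀ * Pm' ε = Pm' ε * Mq x := by
  have h := Pm_Mq x
  calc (Mq x)ᵀ * Pm' ε = Pm' ε * (Pm ε * (Mq x)ᵀ) * Pm' ε := by
        rw [← mul_assoc (Pm' ε), Pm'_mul hε, one_mul]
    _ = Pm' ε * Mq x := by rw [h, ← mul_assoc, mul_assoc _ (Pm ε), Pm_mul hε, mul_one]

/-- `SL_2(K[√ε])` -/
def al (hε : ε ≠ 0) [Fact (∀ r : K, r ^ 2 ≠ ε + 0 * r)] : SL2 (QuadraticAlgebra K ε 0) →* Sp4 K where
  toFun g := mkSp (Mq (g.1 0 0)) (Mq (g.1 0 1) * Pm ε) (Pm' ε * Mq (g.1 1 0)) (Mq (g.1 1 1))ᵀ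
    (by
      rw [transpose_mul, Pm_T, Pm_Mq, ← mul_assoc, mul_assoc _ (Pm ε), Pm_Mq, ← mul_assoc, ← Mq_mul, ← Mq_mul, mul_comm])
    (by
      rw [transpose_mul, Pm'_T, transpose_transpose, Pm'_Mq hε, ← mul_assoc, Pm'_Mq hε, mul_assoc, mul_assoc, ← Mq_mul,
        ← Mq_mul, mul_comm])
    (by
      have h1 := g.2
      rw [det_fin_two] at h1
      rw [transpose_mul, Pm'_T, transpose_transpose, Pm'_Mq hε, ← mul_assoc, mul_assoc _ (Pm ε), Pm_mul hε, mul_one,
        ← Mq_mul, ← Mq_mul, ← Mq_sub, h1, Mq_one])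
  map_one' := by
    apply mkSp_ext
    show Matrix.fromBlocks _ _ _ _ = 1
    rw [← Matrix.fromBlocks_one]
    congr 1
    · exact Mq_one
    · show Mq 0 * _ = 0
      rw [Mq_zero, zero_mul]
    · show _ * Mq 0 = 0
      rw [Mq_zero, mul_zero]
    · show (Mq 1)ᵀ = 1
      rw [Mq_one, transpose_one]
  map_mul' g h := by
    apply mkSp_ext
    show Matrix.fromBlocks _ _ _ _ = Matrix.fromBlocks _ _ _ _ * Matrix.fromBlocks _ _ _ _
    rw [Matrix.fromBlocks_multiply]
    have e : ∀ (i j : Fin 2), (g * h).1 i j = g.1 i 0 * h.1 0 j + g.1 i 1 * h.1 1 j := by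
      intro i j
      show (g.1 * h.1) i j = _
      rw [Matrix.mul_apply, Fin.sum_univ_two]
    congr 1
    · rw [e, Mq_add, Mq_mul, Mq_mul, ← mul_assoc, mul_assoc _ (Pm ε), Pm_mul hε, mul_one]
    · rw [e, Mq_add, Mq_mul, Mq_mul, add_mul, mul_assoc (Mq (g.1 0 1)) (Pm ε), Pm_Mq]
      simp only [mul_assoc]
    · rw [e, Mq_add, Mq_mul, Mq_mul, mul_add, ← mul_assoc _ (Pm' ε), Pm'_Mq hε]
      simp only [mul_assoc]
    · have k1 : ∀ x y : QuadraticAlgebra K ε 0, (Mq (x * y))ᵀ = Pm' ε * Mq x * (Mq y * Pm ε) := by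
        intro x y
        rw [← mul_assoc, mul_assoc (Pm' ε), ← Mq_mul, ← Pm'_Mq hε, mul_assoc, Pm'_mul hε, mul_one]
      have k2 : ∀ x y : QuadraticAlgebra K ε 0, (Mq (x * y))ᵀ = (Mq x)ᵀ * (Mq y)ᵀ := by
        intro x y
        rw [mul_comm, Mq_mul, transpose_mul]
      rw [e, Mq_add, transpose_add]
      congr 1
      · exact k1 _ _
      · exact k2 _ _

variable [Fintype K] [DecidableEq K] [Fintype (QuadraticAlgebra K ε 0)] [DecidableEq (QuadraticAlgebra K ε 0)]

theorem al_be (hε : ε ≠ 0) [Fact (∀ r : K, r ^ 2 ≠ ε + 0 * r)] (ζ : (QuadraticAlgebra K ε 0)ˣ) :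
    al hε (tS ζ) = be (tN ε ⟨(ζ.1.re, ζ.1.im), nm_unit ζ⟩) := by
  apply mkSp_ext
  show Matrix.fromBlocks _ _ _ _ = Matrix.fromBlocks _ _ _ _
  congr 1
  · show Mq 0 * _ = 0
    rw [Mq_zero, zero_mul]
  · show _ * Mq 0 = 0
    rw [Mq_zero, mul_zero]
  · show (Mq (((ζ⁻¹ : (QuadraticAlgebra K ε 0)ˣ)) : QuadraticAlgebra K ε 0))ᵀ = _
    congr 1
    have h1 : (tN ε ⟨(ζ.1.re, ζ.1.im), nm_unit ζ⟩).1 * Mq ((ζ⁻¹ : (QuadraticAlgebra K ε 0)ˣ) : QuadraticAlgebra K ε 0) = 1 := by
      show Mq (ζ : QuadraticAlgebra K ε 0) * _ = 1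
      rw [← Mq_mul, Units.mul_inv, Mq_one]
    exact (Units.inv_eq_of_mul_eq_one_right h1).symm

theorem be_ga (a : Kˣ × Kˣ) : be (tG a) = ga (tS a.1, 1) * ga (1, tS a.2) := by
  rw [← map_mul, Prod.mk_mul_mk, one_mul, mul_one]
  apply mkSp_ext
  show Matrix.fromBlocks _ _ _ _ = Matrix.fromBlocks _ _ _ _
  congr 1
  · ext i j
    (revert i j; simp only [tG_apply, tS_apply, mkG, mk2, _root_.Fin.forall_fin_succ, _root_.MulZeroClass.mul_zero, _root_.sub_zero, _root_.mul_inv_rev, _root_.neg_zero, _root_.Matrix.smul_of, _root_.Matrix.smul_cons, _root_.smul_eq_mul, _root_.Matrix.smul_empty, _root_.ne_eq, _root_.Units.ne_zero, _root_.not_false_eq_true, _root_.inv_mul_cancel_right₀, _root_.Matrix.of_apply, _root_.Matrix.cons_val', _root_.Matrix.cons_val_fin_one, _root_.Units.val_inv_eq_inv_val, Fin.isValue, _root_.Matrix.cons_val_zero, _root_.Matrix.cons_val_succ, _root_.Fin.succ_zero_eq_one, _root_.IsEmpty.forall_iff, _root_.and_true, _root_.Matrix.diagonal_apply_eq, _root_.zero_ne_one,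 _root_.Matrix.diagonal_apply_ne, _root_.and_self, _root_.Fin.succ_ne_zero, _root_.true_and, _root_.Matrix.cons_val_one])
  · ext i j
    (revert i j; simp only [tS_apply, mk2, _root_.Fin.forall_fin_succ, _root_.Matrix.zero_apply, _root_.Units.val_inv_eq_inv_val, Fin.isValue, _root_.Matrix.of_apply, _root_.Matrix.cons_val', _root_.Matrix.cons_val_one, _root_.Matrix.cons_val_fin_one, _root_.Matrix.cons_val_zero, _root_.Fin.succ_zero_eq_one, _root_.IsEmpty.forall_iff, _root_.and_true, _root_.Matrix.diagonal_apply_eq, _root_.ne_eq, _root_.zero_ne_one, _root_.not_false_eq_true, _root_.Matrix.diagonal_apply_ne, _root_.and_self, _root_.Fin.succ_ne_zero, _root_.true_and])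
  · ext i j
    (revert i j; simp only [tS_apply, mk2, _root_.Fin.forall_fin_succ, _root_.Matrix.zero_apply, _root_.Units.val_inv_eq_inv_val, Fin.isValue, _root_.Matrix.of_apply, _root_.Matrix.cons_val', _root_.Matrix.cons_val_zero, _root_.Matrix.cons_val_fin_one, _root_.Matrix.cons_val_one, _root_.Fin.succ_zero_eq_one, _root_.IsEmpty.forall_iff, _root_.and_true, _root_.Matrix.diagonal_apply_eq, _root_.ne_eq, _root_.zero_ne_one, _root_.not_false_eq_true, _root_.Matrix.diagonal_apply_ne, _root_.and_self, _root_.Fin.succ_ne_zero, _root_.true_and])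
  · rw [← map_inv]
    ext i j
    (revert i j; simp only [tG_apply, tS_apply, mkG, mk2, _root_.Fin.forall_fin_succ, _root_.Prod.fst_inv, _root_.Units.val_inv_eq_inv_val, _root_.Prod.snd_inv, _root_.MulZeroClass.mul_zero, _root_.sub_zero, _root_.mul_inv_rev, _root_.inv_inv, _root_.neg_zero, _root_.Matrix.smul_of, _root_.Matrix.smul_cons, _root_.smul_eq_mul, _root_.Matrix.smul_empty, _root_.ne_eq, _root_.Units.ne_zero, _root_.not_false_eq_true, _root_.mul_inv_cancel_right₀, _root_.Matrix.transpose_apply, _root_.Matrix.of_apply, _root_.Matrix.cons_val', _root_.Matrix.cons_val_fin_one, Fin.isValue, _root_.Matrix.cons_val_one, _root_.Matrix.cons_val_zero, _root_.Matrix.cons_val_succ, _root_.Fin.succ_zero_eq_one, _root_.IsEmpty.forall_iff, _root_.and_true, _root_.Matrix.diagonal_apply_eq, _root_.zero_ne_one, _root_.Matrix.diagonal_apply_ne, _root_.and_self, _root_.Fin.succ_ne_zero, _root_.true_and])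

theorem ga_comm (g h : SL2 K) : ga (g, 1) * ga (1, h) = ga (1, h) * ga (g, 1) := by
  rw [← map_mul, ← map_mul]
  simp

theorem ga_neg : (ga ((-1 : SL2 K), 1) * ga (1, -1)).1 = -1 := by
  rw [← map_mul, Prod.mk_mul_mk, one_mul, mul_one]
  show Matrix.fromBlocks _ _ _ _ = _
  ext i j
  rcases i with i | i <;> rcases j with j | j <;> (revert i j; simp only [_root_.Fin.forall_fin_succ, Fin.isValue, _root_.Matrix.SpecialLinearGroup.coe_neg, _root_.Matrix.SpecialLinearGroup.coe_one, _root_.Matrix.neg_apply, _root_.Matrix.one_apply_eq, _root_.ne_eq, _root_.zero_ne_one, _root_.not_false_eq_true, _root_.Matrix.one_apply_ne, _root_.neg_zero, _root_.one_ne_zero, _root_.Matrix.fromBlocks_apply₁₁, _root_.Fin.succ_zero_eq_one, _root_.IsEmpty.forall_iff, _root_.and_true, _root_.Matrix.diagonal_apply_eq, _root_.Matrix.cons_val_zero, _root_.Matrix.diagonal_apply_ne, _root_.Sum.inl.injEq, _root_.and_self, _root_.Fin.succ_ne_zero, _root_.true_and, _root_.Matrix.cons_val_one, _root_.Matrix.cons_val_fin_one,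 _root_.Matrix.fromBlocks_apply₁₂, reduceCtorEq, _root_.Matrix.fromBlocks_apply₂₁, _root_.Matrix.fromBlocks_apply₂₂, _root_.Sum.inr.injEq])

end al

end Cfsg.Agent.H373.OC
end

-- part: H373/OC/PSUFour
section
/-!
# Covers of `PSU_4(q)` in the defining characteristic (helper373)
-/

set_option autoImplicit false
set_option linter.unusedSectionVars false

namespace Cfsg.Agent.H373.OC

open Cfsg Matrix Module Finset Cfsg.Agent.H610.TableCl

universe u v w

section hom

variable {F : Type u} [Field F] [Fintype F] {q : ℕ}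

/-- `Sp_4(K) → SU_4(q)` -/
theorem exists_spSU (hF : Fintype.card F = q ^ 2) (h2 : (2 : F) ≠ 0) {K : Type v} [Field K] (f : K →+* F)
    (hf : ∀ x, f x ^ q = f x) : ∃ ψ : Sp4 K →* SU 4 F q, Function.Injective ψ ∧
      ∀ A : Sp4 K, A.1 = -1 → ψ A ∈ Subgroup.center (SU 4 F q) := by
  classical
  obtain ⟨σ, hσ⟩ := ClassicalGeometry.GUBasic.exists_powHom hF
  obtain ⟨l, hl⟩ := H610.TableL3.exists_norm_neg_one hF h2
  have hq := ClassicalGeometry.GUBasic.two_le hF
  have hσσ : ∀ x, σ (σ x) = x := by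
    intro x
    rw [hσ, hσ, ← pow_mul, ← pow_two, ← hF]
    exact FiniteField.pow_card x
  have hσf : ∀ x, σ (f x) = f x := by
    intro x
    rw [hσ, hf]
  obtain ⟨x, hx⟩ : ∃ x, σ x ≠ x := by
    by_contra hcon
    push Not at hcon
    have h1 : (Finset.univ : Finset F).card ≤ q := by
      have h3 : ∀ x ∈ (Finset.univ : Finset F), x ∈ (Polynomial.X ^ q - Polynomial.X : Polynomial F).roots := by
        intro x _
        rw [Polynomial.mem_roots (FiniteField.X_pow_card_sub_X_ne_zero F hq), Polynomial.IsRoot.def]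
        simp only [Polynomial.eval_sub, Polynomial.eval_pow, Polynomial.eval_X]
        rw [← hσ, hcon, sub_self]
      have h4 : (Finset.univ : Finset F).val ≤ (Polynomial.X ^ q - Polynomial.X : Polynomial F).roots :=
        (Multiset.le_iff_subset Finset.univ.nodup).2 fun x hx => h3 x hx
      have h5 := Multiset.card_le_card h4
      have h6 := Polynomial.card_roots' (Polynomial.X ^ q - Polynomial.X : Polynomial F)
      rw [FiniteField.X_pow_card_sub_X_natDegree_eq F hq] at h6
      exact h5.trans h6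
    rw [Finset.card_univ, hF] at h1
    nlinarith only [hq, h1]
  have hd : Hd σ (x - σ x) l (1 / 2) :=
    { inv := hσσ
      half := by field_simp
      ne := sub_ne_zero.2 (Ne.symm hx)
      anti := by rw [map_sub, hσσ]; ring
      norm := by rw [hσ, ← pow_succ', hl] }
  have hA : ∀ A : Sp4 K, Un σ (conjEquiv hd (A.1.map f)) := fun A =>
    un_conj hd (mem_symplectic_map f A.2) (by
      ext i j
      exact hσf _)
  have hinj : ∀ A B : Sp4 K, conjEquiv hd (A.1.map f) = conjEquiv hd (B.1.map f) → A = B := by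
    intro A B hAB
    have h3 := (conjEquiv hd).injective hAB
    apply Subtype.ext
    ext i j
    have h4 := congrFun (congrFun h3 i) j
    exact f.injective h4
  let e : Fin 2 ⊕ Fin 2 ≃ Fin 4 := Fintype.equivFinOfCardEq (by
    rw [Fintype.card_sum, Fintype.card_fin])
  let g : Sp4 K →* _root_.Matrix.SpecialLinearGroup (Fin 4) F := (slReindex e).comp (spC hd f 2)
  have hmem : ∀ A, g A ∈ SU 4 F q := fun A => mem_SU σ hσ _ ((hA A).reindex e)
  refine ⟨g.codRestrict _ hmem, ?_, ?_⟩
  · intro A B hAB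
    have h3 : g A = g B := congrArg Subtype.val hAB
    exact hinj _ _ ((Matrix.reindexAlgEquiv F F e).injective (congrArg Subtype.val h3))
  · intro A h1
    rw [Subgroup.mem_center_iff]
    intro B
    apply Subtype.ext
    apply Subtype.ext
    have h3 : (g A).1 = -1 := by
      show Matrix.reindexAlgEquiv F F e (PM 2 (x - σ x) l (1 / 2) * A.1.map f * RM 2 (x - σ x) l (1 / 2)) = -1
      have h4 : A.1.map f = -1 := by
        rw [h1]
        show f.mapMatrix (-1) = -1
        rw [map_neg, map_one]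
      rw [h4, mul_neg, mul_one, neg_mul, PM_mul_RM hd, map_neg, map_one]
    show B.1.1 * (g A).1 = (g A).1 * B.1.1
    rw [h3, mul_neg, neg_mul, mul_one, one_mul]

end hom

section inj

variable {K : Type u} [Field K] {ε : K}

theorem Mq_injective : Function.Injective (Mq (ε := ε) : QuadraticAlgebra K ε 0 → M2 K) := by
  intro x y h
  have h1 := congrFun (congrFun h 0) 0
  have h2 := congrFun (congrFun h 1) 0
  exact QuadraticAlgebra.ext h1 h2

theorem al_injective (hε : ε ≠ 0) [Fact (∀ r : K, r ^ 2 ≠ ε + 0 * r)] : Function.Injective (al hε) := by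
  intro g h hgh
  have h1 : Matrix.fromBlocks (Mq (g.1 0 0)) (Mq (g.1 0 1) * Pm ε) (Pm' ε * Mq (g.1 1 0)) (Mq (g.1 1 1))ᵀ =
    Matrix.fromBlocks (Mq (h.1 0 0)) (Mq (h.1 0 1) * Pm ε) (Pm' ε * Mq (h.1 1 0)) (Mq (h.1 1 1))ᵀ := congrArg Subtype.val hgh
  rw [Matrix.fromBlocks_inj] at h1
  obtain ⟨e1, e2, e3, e4⟩ := h1
  have e2' := congrArg (fun X => X * Pm' ε) e2
  simp only [mul_assoc, Pm_mul hε, mul_one] at e2'
  have e3' := congrArg (fun X => Pm ε * X) e3
  simp only [← mul_assoc, Pm_mul hε, one_mul] at e3'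
  have e4' := congrArg Matrix.transpose e4
  rw [transpose_transpose, transpose_transpose] at e4'
  refine Subtype.ext (Matrix.ext fun i j => ?_)
  fin_cases i <;> fin_cases j
  · exact Mq_injective e1
  · exact Mq_injective e2'
  · exact Mq_injective e3'
  · exact Mq_injective e4'

end inj

section torus

variable {K : Type u} [Field K] [Fintype K] [DecidableEq K]

theorem tM_mul (ε : K) (y z : {y : K × K // nm ε y = 1}) :
    tM ε ⟨ml ε y.1 z.1, by rw [nm_ml, y.2, z.2, mul_one]⟩ = tM ε y * tM ε z := by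
  rw [tM, tM, tM, mk2_mul]
  exact mk2_congr (by simp only [ml]) (by simp only [ml]; ring) (by simp only [ml]; ring) (by simp only [ml]; ring)

theorem tM_one (ε : K) : tM ε ⟨(1, 0), by simp [nm]⟩ = 1 := by
  rw [tM, ← mk2_one]
  exact mk2_congr rfl (by simp) rfl rfl

theorem tM_inv (ε : K) (y : {y : K × K // nm ε y = 1}) : ∃ z, tM ε z = (tM ε y)⁻¹ := by
  obtain ⟨⟨a, b⟩, hy⟩ := y
  have hy' : a ^ 2 - ε * b ^ 2 = 1 := hy
  refine ⟨⟨(a, -b), ?_⟩, ?_⟩
  · show a ^ 2 - ε * (-b) ^ 2 = 1
    linear_combination hy'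
  · apply eq_inv_of_mul_eq_one_left
    show mk2 a (ε * (-b)) (-b) a _ * mk2 a (ε * b) b a _ = 1
    rw [mk2_mul, ← mk2_one]
    apply mk2_congr
    · linear_combination hy'
    · ring
    · ring
    · linear_combination hy'

/-- the non-split torus as a subgroup -/
def torus (ε : K) : Subgroup (SL2 K) where
  carrier := Set.range (tM ε)
  mul_mem' := by
    rintro _ _ ⟨y, rfl⟩ ⟨z, rfl⟩
    exact ⟨_, tM_mul ε y z⟩
  one_mem' := ⟨_, tM_one ε⟩
  inv_mem' := by
    rintro _ ⟨y, rfl⟩
    exact tM_inv ε y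

theorem tM_injective (ε : K) : Function.Injective (tM ε) := by
  intro y z h
  have h1 : (tM ε y).1 0 0 = (tM ε z).1 0 0 := by rw [h]
  have h2 : (tM ε y).1 1 0 = (tM ε z).1 1 0 := by rw [h]
  exact Subtype.ext (Prod.ext h1 h2)

theorem card_torus {ε : K} (h2 : ringChar K ≠ 2) (hε : ¬ IsSquare ε) : Nat.card (torus ε) = Fintype.card K + 1 := by
  rw [← card_nm_one h2 hε one_ne_zero, ← Nat.card_eq_fintype_card]
  exact (Nat.card_congr (Equiv.ofInjective (tM ε) (tM_injective ε))).symm

/-- the sum over the torus is fixed by the torus -/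
theorem torus_fix {k : Type v} [Field k] {V : Type w} [AddCommGroup V] [Module k V] {H : Type*} [Group H] (ε : K)
    (α : SL2 K →* H) (ρ : Representation k H V) {x : SL2 K} (hx : x ∈ torus ε) (v : V) :
    ρ (α x) ((∑ y, ρ (α (tM ε y))) v) = (∑ y, ρ (α (tM ε y))) v := by
  rw [LinearMap.sum_apply, map_sum]
  have h1 : ∀ y, ∃ z, tM ε z = x * tM ε y := fun y => (torus ε).mul_mem hx ⟨y, rfl⟩
  choose f hf using h1
  refine Fintype.sum_bijective f ?_ _ _ fun y => ?_
  · apply Finite.injective_iff_bijective.1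
    intro a b hab
    apply tM_injective ε
    have h3 := hf a
    rw [hab, hf b] at h3
    exact (mul_left_cancel h3).symm
  · rw [hf, map_mul α, map_mul ρ, Module.End.mul_apply]

end torus

/-- `-1` does not act as `-1` -/
theorem not_neg_one {K : Type u} [Field K] [Fintype K] [DecidableEq K] (h2 : ringChar K ≠ 2) {k : Type v} [Field k]
    (h2k : (2 : k) ≠ 0) {V : Type w} [AddCommGroup V] [Module k V] [Nontrivial V] {H : Type*} [Group H] [IsSimpleGroup H]
    (ρ : Representation k H V) (γ : SL2 K →* H) (h : ρ (γ (-1)) = -1) : False := by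
  obtain ⟨v, hv⟩ := exists_ne (0 : V)
  have key : ρ (γ (-1)) = 1 → False := by
    intro h1
    have h3 := LinearMap.congr_fun (h1.symm.trans h) v
    apply hv
    have h4 : (2 : k) • v = 0 := by
      rw [two_smul]
      have h5 : v = - v := h3
      nth_rewrite 1 [h5]
      exact neg_add_cancel v
    exact (smul_eq_zero.1 h4).resolve_left h2k
  let N : Subgroup H :=
    { carrier := {g | ∃ c : kˣ, ρ g = (c : k) • (1 : V →ₗ[k] V)}
      mul_mem' := by
        rintro a b ⟨c, hc⟩ ⟨d, hd⟩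
        refine ⟨c * d, ?_⟩
        rw [map_mul, hc, hd, Units.val_mul, smul_mul_smul_comm, one_mul]
      one_mem' := ⟨1, by rw [map_one, Units.val_one, one_smul]⟩
      inv_mem' := by
        rintro a ⟨c, hc⟩
        refine ⟨c⁻¹, ?_⟩
        have h3 : ρ a⁻¹ * ρ a = 1 := by rw [← map_mul, inv_mul_cancel, map_one]
        rw [hc, mul_smul_comm, mul_one] at h3
        rw [← h3, smul_smul, Units.inv_mul, one_smul] }
  have hN : N.Normal := ⟨by
    rintro a ⟨c, hc⟩ g
    refine ⟨c, ?_⟩
    rw [map_mul, map_mul, hc, mul_smul_comm, mul_one, smul_mul_assoc, ← map_mul, mul_inv_cancel, map_one]⟩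
  rcases IsSimpleGroup.eq_bot_or_eq_top_of_normal N hN with h3 | h3
  · have h4 : γ (-1) ∈ N := ⟨-1, by rw [h, Units.val_neg, Units.val_one, neg_smul, one_smul]⟩
    rw [h3, Subgroup.mem_bot] at h4
    exact key (by rw [h4, map_one])
  · -- `-1` is a commutator
    obtain ⟨a, b, hab⟩ : ∃ a b : K, a ^ 2 + b ^ 2 = -1 := by
      have hodd : Fintype.card K % 2 = 1 := FiniteField.odd_card_of_char_ne_two h2
      obtain ⟨a, b, h5⟩ := FiniteField.exists_root_sum_quadratic (f := (Polynomial.X ^ 2 : Polynomial K))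
        (g := (Polynomial.X ^ 2 + Polynomial.C 1 : Polynomial K)) (Polynomial.degree_X_pow 2)
        (Polynomial.degree_X_pow_add_C (by norm_num) 1) hodd
      simp only [Polynomial.eval_add, Polynomial.eval_pow, Polynomial.eval_X, Polynomial.eval_C] at h5
      exact ⟨a, b, by linear_combination h5⟩
    let A : SL2 K := mk2 0 (-1) 1 0 (by ring)
    let B : SL2 K := mk2 a b b (-a) (by linear_combination -hab)
    have h5 : A * B = (-1) * (B * A) := by
      rw [neg_one_mul, mk2_mul, mk2_mul]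
      apply Subtype.ext
      show !![_, _; _, _] = -!![_, _; _, _]
      ext i j
      (revert i j; simp only [_root_.Fin.forall_fin_succ, _root_.MulZeroClass.zero_mul, _root_.neg_mul, _root_.one_mul, _root_.zero_add, _root_.mul_neg, _root_.neg_neg, _root_.add_zero, _root_.neg_zero, _root_.Matrix.of_apply, _root_.Matrix.cons_val', _root_.Matrix.cons_val_fin_one, _root_.MulZeroClass.mul_zero, _root_.mul_one, _root_.Matrix.neg_apply, Fin.isValue, _root_.Matrix.cons_val_zero, _root_.Matrix.cons_val_succ, _root_.forall_const, _root_.and_self, _root_.implies_true])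
    have h6 : ρ (γ A) * ρ (γ B) = ρ (γ B) * ρ (γ A) := by
      have h7 : γ A ∈ N := by rw [h3]; trivial
      obtain ⟨c, hc⟩ := h7
      rw [hc, smul_mul_assoc, one_mul, mul_smul_comm, mul_one]
    apply key
    have h8 : ρ (γ (-1)) * (ρ (γ B) * ρ (γ A)) = ρ (γ B) * ρ (γ A) := by
      calc ρ (γ (-1)) * (ρ (γ B) * ρ (γ A)) = ρ (γ ((-1) * (B * A))) := by
            rw [map_mul γ, map_mul γ, map_mul ρ, map_mul ρ]
        _ = ρ (γ A) * ρ (γ B) := by rw [← h5, map_mul γ, map_mul ρ]
        _ = _ := h6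
    have h9 : ρ (γ B) * ρ (γ A) * (ρ ((γ A)⁻¹) * ρ ((γ B)⁻¹)) = 1 := by
      rw [← map_mul ρ, ← map_mul ρ, ← map_mul ρ, mul_assoc, mul_inv_cancel_left, mul_inv_cancel, map_one]
    calc ρ (γ (-1)) = ρ (γ (-1)) * (ρ (γ B) * ρ (γ A) * (ρ ((γ A)⁻¹) * ρ ((γ B)⁻¹))) := by rw [h9, mul_one]
      _ = ρ (γ B) * ρ (γ A) * (ρ ((γ A)⁻¹) * ρ ((γ B)⁻¹)) := by rw [← mul_assoc, h8]
      _ = 1 := h9

/-- **Covers of `PSU_4(q)` in the defining characteristic `p`.** -/
theorem exists_elt {F : Type u} [Field F] [Fintype F] {q p f r : ℕ} (hp : p.Prime) (hp2 : p ≠ 2) (hq : q = p ^ f)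
    (hF : Fintype.card F = q ^ 2) (hr : r.Prime) (hr2 : r ≠ 2) (hrp : r ∣ p ^ 2 + 1)
    {V : Type w} [AddCommGroup V] [Finite V] [Nontrivial V] (hV : ∀ v : V, p • v = 0)
    (φ : PSU 4 F q →* AddMonoid.End V) :
    ∃ (x : PSU 4 F q) (v : V), ∑ i ∈ range (orderOf x), φ (x ^ i) v ≠ 0 ∧ (orderOf x = p ∨ orderOf x = r) := by
  classical
  by_contra hcon
  push Not at hcon
  have hpf : Fact p.Prime := ⟨hp⟩
  have hrf : Fact r.Prime := ⟨hr⟩
  have hchF : CharP F p := by
    have h1 : Fintype.card F = p ^ (f * 2) := by rw [hF, hq, ← pow_mul]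
    exact charP_of_card_eq_prime_pow h1
  have h2K : ringChar (ZMod p) ≠ 2 := by rw [ringChar.eq (ZMod p) p]; exact hp2
  have h2F : (2 : F) ≠ 0 := Ring.two_ne_zero (by rw [ringChar.eq F p]; exact hp2)
  obtain ⟨ε, hε⟩ := FiniteField.exists_nonsquare h2K
  have hε0 : ε ≠ 0 := by
    rintro rfl
    exact hε ⟨0, by ring⟩
  have hfact : Fact (∀ r : ZMod p, r ^ 2 ≠ ε + 0 * r) := ⟨fun r h => hε ⟨r, by rw [← pow_two, h]; ring⟩⟩
  have hfin : Fintype (QuadraticAlgebra (ZMod p) ε 0) := Fintype.ofEquiv _ (QuadraticAlgebra.equivProd ε 0).symm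
  have hch2 : CharP (QuadraticAlgebra (ZMod p) ε 0) p :=
    charP_of_injective_algebraMap (algebraMap (ZMod p) (QuadraticAlgebra (ZMod p) ε 0)).injective p
  have h2K2 : ringChar (QuadraticAlgebra (ZMod p) ε 0) ≠ 2 := by
    rw [ringChar.eq (QuadraticAlgebra (ZMod p) ε 0) p]; exact hp2
  obtain ⟨ε₂, hε₂⟩ := FiniteField.exists_nonsquare h2K2
  have hcard2 : Fintype.card (QuadraticAlgebra (ZMod p) ε 0) = p ^ 2 := by
    rw [Fintype.card_congr (QuadraticAlgebra.equivProd ε 0), Fintype.card_prod, ZMod.card, pow_two]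
  obtain ⟨ψ, hψ, hψc⟩ := exists_spSU hF h2F (ZMod.castHom (dvd_refl p) F) (fun x => by
    rw [← map_pow, hq, ZMod.pow_card_pow])
  let Ψ : Sp4 (ZMod p) →* PSU 4 F q := (QuotientGroup.mk' _).comp ψ
  let α : SL2 (QuadraticAlgebra (ZMod p) ε 0) →* PSU 4 F q := Ψ.comp (al hε0)
  let β : GL2 (ZMod p) →* PSU 4 F q := Ψ.comp be
  let γ₁ : SL2 (ZMod p) →* PSU 4 F q := Ψ.comp (ga.comp (MonoidHom.inl _ _))
  let γ₂ : SL2 (ZMod p) →* PSU 4 F q := Ψ.comp (ga.comp (MonoidHom.inr _ _))
  -- an element of order `r`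
  obtain ⟨x, hx⟩ : ∃ x : torus ε₂, orderOf x = r := by
    apply exists_prime_orderOf_dvd_card' r
    rw [card_torus h2K2 hε₂, hcard2]
    exact hrp
  have hxr : orderOf (x : SL2 (QuadraticAlgebra (ZMod p) ε 0)) = r := by rw [Subgroup.orderOf_coe, hx]
  have hαx : orderOf (α x) = r := by
    have h1 : (α x) ^ r = 1 := by rw [← map_pow, ← hxr, pow_orderOf_eq_one, map_one]
    refine orderOf_eq_prime h1 ?_
    intro h3
    have h4 : ψ (al hε0 x) ∈ Subgroup.center (SU 4 F q) := (QuotientGroup.eq_one_iff _).1 h3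
    obtain ⟨c, hc, _, hc2⟩ := (LieClassical.SUBasic.mem_center_SU_iff hF (by norm_num) _).1 h4
    have h5 : ψ (al hε0 x) ^ 4 = 1 := by
      apply H610.TableL3.suM_injective 4 q
      rw [map_pow, map_one]
      have h6 : H610.TableL3.suM 4 q (ψ (al hε0 x)) = Matrix.diagonal fun _ => c := by
        show (ψ (al hε0 x)).1.1 = _
        rw [hc2, LieClassical.SUBasic.coe_suScalar]
      rw [h6, Matrix.diagonal_pow, ← Matrix.diagonal_one]
      congr 1
      funext i
      exact hc
    have h7 : (x : SL2 (QuadraticAlgebra (ZMod p) ε 0)) ^ 4 = 1 := by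
      apply al_injective hε0
      apply hψ
      rw [map_pow, map_pow, h5, map_one, map_one]
    have h8 : r ∣ 4 := by
      rw [← hxr]
      exact orderOf_dvd_of_pow_eq_one h7
    have h9 : r ∣ 2 := hr.dvd_of_dvd_pow (show r ∣ 2 ^ 2 by norm_num; exact h8)
    exact hr2 ((Nat.prime_dvd_prime_iff_eq hr Nat.prime_two).1 h9)
  -- base change
  let _ : Module (ZMod p) V := AddCommGroup.zmodModule (n := p) hV
  let ρ : Representation (ZMod p) (PSU 4 F q) V :=
    { toFun := fun g => (φ g : V →+ V).toZModLinearMap p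
      map_one' := by rw [map_one]; rfl
      map_mul' := fun a b => by rw [map_mul]; rfl }
  let k := AlgebraicClosure (ZMod p)
  have : CharP k p := charP_of_injective_algebraMap (algebraMap (ZMod p) k).injective p
  let ρk : Representation k (PSU 4 F q) (TensorProduct (ZMod p) k V) :=
    { toFun := fun g => (ρ g).baseChange k
      map_one' := by rw [map_one]; exact LinearMap.baseChange_id
      map_mul' := fun a b => by rw [map_mul]; exact LinearMap.baseChange_mul _ _ }
  have : FiniteDimensional (ZMod p) V := Module.Finite.of_finite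
  have hnt : Nontrivial (TensorProduct (ZMod p) k V) := by
    have h3 : 0 < finrank k (TensorProduct (ZMod p) k V) := by
      rw [Module.finrank_baseChange]
      exact finrank_pos
    exact nontrivial_of_finrank_pos h3
  have hbc : ∀ (y : PSU 4 F q) (n : ℕ), (∀ v, ∑ i ∈ range n, φ (y ^ i) v = 0) → ∑ i ∈ range n, ρk (y ^ i) = 0 := by
    intro y n h
    have h6 : ∑ i ∈ range n, ρ (y ^ i) = 0 := by
      apply LinearMap.ext
      intro v
      rw [LinearMap.sum_apply]
      exact h v
    have h7 : ∑ i ∈ range n, ρk (y ^ i) = (∑ i ∈ range n, ρ (y ^ i)).baseChange k := by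
      rw [← LinearMap.baseChangeHom_apply, map_sum]
      rfl
    rw [h7, h6, LinearMap.baseChange_zero]
  have hno : ∀ u : PSU 4 F q, u ^ p = 1 → ∑ i ∈ range p, ρk (u ^ i) = 0 := by
    intro u hu
    by_cases h1 : u = 1
    · subst h1
      simp only [one_pow, map_one, Finset.sum_const, Finset.card_range]
      rw [← Nat.cast_smul_eq_nsmul k, CharP.cast_eq_zero, zero_smul]
    · have h3 : orderOf u = p := orderOf_eq_prime hu h1
      apply hbc
      intro v
      by_contra h4
      exact (hcon u v (by rw [h3]; exact h4)).1 h3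
  have hxk : ∑ i ∈ range r, ρk (α x ^ i) = 0 := by
    apply hbc
    intro v
    by_contra h4
    exact (hcon (α x) v (by rw [hαx]; exact h4)).2 hαx
  have hrk : ((r : ℕ) : k) ≠ 0 := by
    rw [Ne, CharP.cast_eq_zero_iff k p]
    intro h
    have h1 := (Nat.prime_dvd_prime_iff_eq hp hr).1 h
    rw [← h1] at hrp
    have h3 : p ∣ 1 := (Nat.dvd_add_right (dvd_pow_self p two_ne_zero)).1 hrp
    exact hp.one_lt.ne' (Nat.dvd_one.1 h3)
  have hM : ∑ y, ρk (α (tM ε₂ y)) = 0 := by
    apply LinearMap.ext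
    intro v
    have h1 := torus_fix ε₂ α ρk x.2 v
    set w := (∑ y, ρk (α (tM ε₂ y))) v with hw
    have h3 : ∀ i : ℕ, ρk (α x ^ i) w = w := by
      intro i
      induction i with
      | zero => rw [pow_zero, map_one]; rfl
      | succ i ih => rw [pow_succ, map_mul, Module.End.mul_apply, h1, ih]
    have h4 := LinearMap.congr_fun hxk w
    rw [LinearMap.sum_apply, Finset.sum_congr rfl fun i _ => h3 i, Finset.sum_const, Finset.card_range,
      ← Nat.cast_smul_eq_nsmul k, LinearMap.zero_apply] at h4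
    exact (smul_eq_zero.1 h4).resolve_left hrk
  have hcomm : ∀ g h, γ₁ g * γ₂ h = γ₂ h * γ₁ g := by
    intro g h
    show Ψ (ga (g, 1)) * Ψ (ga (1, h)) = Ψ (ga (1, h)) * Ψ (ga (g, 1))
    rw [← map_mul, ga_comm, map_mul]
  have hz : γ₁ (-1) * γ₂ (-1) = 1 := by
    show Ψ (ga (-1, 1)) * Ψ (ga (1, -1)) = 1
    rw [← map_mul]
    exact (QuotientGroup.eq_one_iff _).2 (hψc _ ga_neg)
  have hαβ : ∀ ζ : (QuadraticAlgebra (ZMod p) ε 0)ˣ, α (tS ζ) = β (tN ε ⟨(ζ.1.re, ζ.1.im), nm_unit ζ⟩) := by
    intro ζ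
    show Ψ (al hε0 (tS ζ)) = Ψ (be _)
    rw [al_be]
  have hβγ : ∀ a : (ZMod p)ˣ × (ZMod p)ˣ, β (tG a) = γ₁ (tS a.1) * γ₂ (tS a.2) := by
    intro a
    show Ψ (be (tG a)) = Ψ (ga (tS a.1, 1)) * Ψ (ga (1, tS a.2))
    rw [be_ga, map_mul]
  have hfin2 := chain hp2 (ZMod.card p) (algebraMap (ZMod p) k) hε₂ α β γ₁ γ₂ hcomm hz hαβ hβγ ρk hno hM
  have h2k : (2 : k) ≠ 0 := by
    intro h
    rw [show (2 : k) = ((2 : ℕ) : k) by norm_num, CharP.cast_eq_zero_iff k p] at h
    exact hp2 ((Nat.prime_dvd_prime_iff_eq hp Nat.prime_two).1 h)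
  have : IsSimpleGroup (PSU 4 F q) := S0283.result hF 4 (by norm_num) (by norm_num)
  exact not_neg_one h2K h2k ρk γ₁ hfin2

end Cfsg.Agent.H373.OC
end

private theorem dce_0bea07249307 : _root_.True := by
  try have : _root_.True := by simp only [_root_.Cfsg.Agent.H373.OC.compG.congr_simp]
  try have : _root_.True := by simp only [_root_.Cfsg.Agent.H373.OC.tM.eq_1]
  try have : _root_.True := by simp only [_root_.Cfsg.Agent.H373.OC.comp.eq_1]
  try have : _root_.True := by simp only [_root_.Cfsg.Agent.H373.OC.mk2.eq_1]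
  try have : _root_.True := by simp only [_root_.Cfsg.Agent.H373.OC.tN.eq_1]
  try have : _root_.True := by simp only [_root_.Cfsg.Agent.H373.OC.uS.eq_1]
  try have : _root_.True := by simp only [_root_.Cfsg.Agent.H373.OC.Pm'.eq_1]
  try have : _root_.True := by simp only [_root_.Cfsg.Agent.H373.OC.compG.eq_1]
  try have : _root_.True := by simp only [_root_.Cfsg.Agent.H373.OC.Pm.eq_1]
  try have : _root_.True := by simp only [_root_.Cfsg.Agent.H373.OC.ml.eq_1]
  try have : _root_.True := by simp only [_root_.Cfsg.Agent.H373.OC.nm.eq_1]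
  try have : _root_.True := by simp only [_root_.Cfsg.Agent.H373.OC.mkG.eq_1]
  try have : _root_.True := by simp only [_root_.Cfsg.Agent.H373.OC.Mq.eq_1]
  try have : _root_.True := by simp only [_root_.Cfsg.Agent.H373.OC.uG.eq_1]
  exact _root_.True.intro
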